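import Cfsg.Prelude.Def_GeometricClasses
import Cfsg.Agent.S5653
import Cfsg.Agent.S5654
import Cfsg.Agent.S5658
import Cfsg.Agent.S5659
import Cfsg.Agent.Lib.MaxSub.UFrameCoord
import Cfsg.Agent.Lib.MaxSub.UExtMatrix
import Cfsg.Agent.Lib.MaxSub.SuPow.Main
import Cfsg.Agent.Lib.MaxSub.SuPow.AllPure

/-!
Maximal subgroups of `SU₉`: every class except the symplectic-type normaliser.
-/

set_option autoImplicit false
open Cfsg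

namespace CfsgLib.MaxSub.SuNine

/-- the tensor square class -/
theorem tensor_square {F : Type*} [Field F] [Fintype F] {q : ℕ} (hF : Fintype.card F = q ^ 2) (hq : 3 ≤ q)
    (e : Fin 9 ≃ (Fin 2 → Fin 3)) (P : Matrix.GeneralLinearGroup (Fin 9) F) (f₁ : (Fin 3 → F) → (Fin 3 → F) → F)
    (hf₁ : Cfsg.Geo.IsUnitaryFormPow q f₁)
    (hT : Cfsg.Geo.IsTensorPowerFormStructure (fun x : F => x ^ q) (Cfsg.hermForm 9 F q) f₁ e P) :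
    Cfsg.Geo.IsMaximalIn (Cfsg.GU 9 F q ⊓ Cfsg.Geo.specialLinear (Fin 9) F)
      (Cfsg.Geo.tensorWreathSubgroup 3 2 e P ⊓ (Cfsg.GU 9 F q ⊓ Cfsg.Geo.specialLinear (Fin 9) F)) := by
  obtain ⟨c, hc, hT⟩ := hT
  let D : CfsgLib.MaxSub.SuPow.Data F 9 q 3 2 := ⟨hF, e, P, f₁, hf₁, c, hc, hT⟩
  show Cfsg.Geo.IsMaximalIn _ D.base
  have hbig : D.sys.Big ∨ 4 < Nat.card F := by
    have : 3 * 3 ≤ q ^ 2 := by rw [sq]; exact Nat.mul_le_mul hq hq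
    exact Or.inr (by rw [Nat.card_eq_fintype_card, hF]; omega)
  haveI : Nonempty (Fin 9) := ⟨0⟩
  obtain ⟨e₀, f₀, h⟩ := D.exists_hyp (le_refl 3)
  exact D.maximal_of (le_refl 3) (le_refl 2) (by norm_num) (fun h => by omega) fun M G Z g hg =>
    G.permutes Z (D.wide (le_refl 3)) hbig (fun d hd => G.all_pure Z (D.wide (le_refl 3)) hbig hd) h.left_ne h.ee hg

/-- the geometric classes of `SU₉` other than the symplectic-type one -/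
theorem classes {F : Type*} [Field F] [Fintype F] (q : ℕ) (hF : Fintype.card F = q ^ 2) :
    (∀ W : Submodule F (Fin 9 → F), W ≠ ⊥ → Cfsg.Geo.IsTotallySingularFor (Cfsg.hermForm 9 F q) W → Cfsg.Geo.IsMaximalIn (Cfsg.GU 9 F q ⊓ Cfsg.Geo.specialLinear (Fin 9) F) (Cfsg.Geo.subspaceStabilizer W ⊓ (Cfsg.GU 9 F q ⊓ Cfsg.Geo.specialLinear (Fin 9) F))) ∧
    (∀ W : Submodule F (Fin 9 → F), W ≠ ⊥ → Cfsg.Geo.IsNondegenerateOn (Cfsg.hermForm 9 F q) W → 2 * Module.finrank F W < 9 → Cfsg.Geo.IsMaximalIn (Cfsg.GU 9 F q ⊓ Cfsg.Geo.specialLinear (Fin 9) F) (Cfsg.Geo.subspaceStabilizer W ⊓ (Cfsg.GU 9 F q ⊓ Cfsg.Geo.specialLinear (Fin 9) F))) ∧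
    (∀ D : Fin 9 → Submodule F (Fin 9 → F), Cfsg.Geo.IsNondegenerateMDecomposition (Cfsg.hermForm 9 F q) 1 D → Cfsg.Geo.IsMaximalIn (Cfsg.GU 9 F q ⊓ Cfsg.Geo.specialLinear (Fin 9) F) (Cfsg.Geo.decompositionStabilizer D ⊓ (Cfsg.GU 9 F q ⊓ Cfsg.Geo.specialLinear (Fin 9) F))) ∧
    (∀ D : Fin 3 → Submodule F (Fin 9 → F), Cfsg.Geo.IsNondegenerateMDecomposition (Cfsg.hermForm 9 F q) 3 D → Cfsg.Geo.IsMaximalIn (Cfsg.GU 9 F q ⊓ Cfsg.Geo.specialLinear (Fin 9) F) (Cfsg.Geo.decompositionStabilizer D ⊓ (Cfsg.GU 9 F q ⊓ Cfsg.Geo.specialLinear (Fin 9) F))) ∧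
    (∀ K : Subalgebra F (Matrix (Fin 9) (Fin 9) F), Cfsg.Geo.IsFieldSubalgebra 3 K → Cfsg.Geo.IsAdjointClosedFor (Cfsg.hermForm 9 F q) K → Cfsg.Geo.IsMaximalIn (Cfsg.GU 9 F q ⊓ Cfsg.Geo.specialLinear (Fin 9) F) (Cfsg.Geo.subalgebraNormalizer K ⊓ (Cfsg.GU 9 F q ⊓ Cfsg.Geo.specialLinear (Fin 9) F))) ∧
    (∀ (F₀ : Subfield F) (r : ℕ) (P : Matrix.GeneralLinearGroup (Fin 9) F), r.Prime → Odd r → Fintype.card F = Nat.card F₀ ^ r → Cfsg.Geo.IsFormRationalStructure (Cfsg.hermForm 9 F q) F₀ 1 P → Cfsg.Geo.IsMaximalIn (Cfsg.GU 9 F q ⊓ Cfsg.Geo.specialLinear (Fin 9) F) (Cfsg.Geo.subfieldSubgroup F₀ P ⊓ (Cfsg.GU 9 F q ⊓ Cfsg.Geo.specialLinear (Fin 9) F))) ∧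
    (Odd q → ∀ (F₀ : Subfield F) (P : Matrix.GeneralLinearGroup (Fin 9) F), Fintype.card F = Nat.card F₀ ^ 2 → Cfsg.Geo.IsFormRationalStructure (Cfsg.hermForm 9 F q) F₀ 1 P → Cfsg.Geo.IsMaximalIn (Cfsg.GU 9 F q ⊓ Cfsg.Geo.specialLinear (Fin 9) F) (Cfsg.Geo.subfieldSubgroup F₀ P ⊓ (Cfsg.GU 9 F q ⊓ Cfsg.Geo.specialLinear (Fin 9) F))) ∧
    (3 ≤ q → ∀ (e : Fin 9 ≃ (Fin 2 → Fin 3)) (P : Matrix.GeneralLinearGroup (Fin 9) F) (f₁ : (Fin 3 → F) → (Fin 3 → F) → F), Cfsg.Geo.IsUnitaryFormPow q f₁ → Cfsg.Geo.IsTensorPowerFormStructure (fun x : F => x ^ q) (Cfsg.hermForm 9 F q) f₁ e P → Cfsg.Geo.IsMaximalIn (Cfsg.GU 9 F q ⊓ Cfsg.Geo.specialLinear (Fin 9) F) (Cfsg.Geo.tensorWreathSubgroup 3 2 e P ⊓ (Cfsg.GU 9 F q ⊓ Cfsg.Geo.specialLinear (Fin 9) F))) := by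
  classical
  exact ⟨fun W h0 hW => Cfsg.Agent.S5653.base 9 q hF (by norm_num) W h0 hW,
    fun W h0 hW hd => Cfsg.Agent.S5654.base 9 q hF (by norm_num) W h0 hW hd,
    fun D hD => CfsgLib.MaxSub.UFrame.isMaximalIn_decomposition_nine hF le_rfl (fun h => by omega) hD,
    fun D hD => CfsgLib.MaxSub.UFrame.isMaximalIn_decomposition_nine hF le_rfl (fun h => by omega) hD,
    fun K hK hac => CfsgLib.MaxSub.UExt.extension_maximal hF Nat.prime_three (by decide) (by norm_num) K hK hac,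
    fun F₀ r P hr hro hc hP => Cfsg.Agent.S5658.base 9 q hF (Or.inl le_rfl) F₀ r hr hro hc P hP,
    fun hodd F₀ P hc hP => Cfsg.Agent.S5659.base 9 q hF (by norm_num) hodd F₀ hc P hP,
    fun hq e P f₁ h₁ hT => tensor_square hF hq e P f₁ h₁ hT⟩

end CfsgLib.MaxSub.SuNine
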