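import Cfsg.Agent.Lib.MaxSub.SuNine.Uni
import Cfsg.Agent.Lib.MaxSub.SlNine.Std
import Cfsg.Agent.Lib.MaxSub.SlNine.Involution
import Cfsg.Agent.Lib.MaxSub.Rational
import Cfsg.Agent.Lib.MaxSub.TPowSL.Main

/-!
Coordinates for the symplectic type class of `SU₉`: a group of symplectic type preserving the form becomes the
standard group, and the form becomes a multiple of the standard one.
-/

set_option autoImplicit false
set_option linter.unusedSectionVars false

namespace CfsgLib.MaxSub.SuNine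

open Matrix CfsgLib.MaxSub.SlNine Cfsg.Geo CfsgLib.Classical
open scoped MatrixGroups

variable {F : Type*} [Field F] [Fintype F] {q : ℕ}

/-- what commutes with the group of dimension nine is scalar -/
theorem scalar_of_comm_v9 {w : F} (h : SlNine.Root w) {X : GL I9 F}
    (hX : ∀ p, (X : Matrix I9 I9 F) * v9 w p = v9 w p * X) :
    ∃ c : F, c ≠ 0 ∧ (X : Matrix I9 I9 F) = c • 1 := by
  obtain ⟨c, r, hc, e⟩ := eq_v9 h (σ := fun _ => 1) (X := X) fun p => by rw [one_smul]; exact hX p
  refine ⟨c, hc, ?_⟩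
  have key : ∀ p : I9 × I9, dot r.1 p.2 - dot p.1 r.2 = 0 := fun p => h.ch_eq_one (by
    have e1 := hX p
    rw [e, smul_mul_assoc, mul_smul_comm] at e1
    have e2 : v9 w r * v9 w p = v9 w p * v9 w r := smul_right_injective (Matrix I9 I9 F) hc e1
    rw [v9, v9, h.w9_comm] at e2
    have hne : v9 w p * v9 w r ≠ 0 := fun e0 => by
      have := congrArg Matrix.det e0
      rw [det_mul, det_zero] at this
      exact mul_ne_zero (det_v9_ne h p) (det_v9_ne h r) this
    exact smul_left_injective F hne (e2.trans (one_smul F _).symm))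
  have k1 := key (0, (1, 0))
  have k2 := key (0, (0, 1))
  have k3 := key ((1, 0), 0)
  have k4 := key ((0, 1), 0)
  simp [dot] at k1 k2 k3 k4
  rw [e, show r = 0 from Prod.ext (Prod.ext k1 k2) (Prod.ext k3 k4), v9_zero h]

/-- a similarity of order dividing three is an isometry -/
theorem isometry_of_cube (hF : Fintype.card F = q ^ 2) (h1 : q % 3 = 2) {n : ℕ} [NeZero n] {y : GL (Fin n) F}
    (hy : y ∈ similarityGroup (Cfsg.hermForm n F q)) (h3 : y ^ 3 = 1) :
    UMat (qFrob hF) (y : Matrix (Fin n) (Fin n) F) := by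
  obtain ⟨c, hc⟩ := hy
  have e : (y : Matrix (Fin n) (Fin n) F)ᵀ * (y : Matrix (Fin n) (Fin n) F).map (qFrob hF) = (c : F) • 1 := by
    ext i j
    have := hc (Pi.single i 1) (Pi.single j 1)
    simp only [Cfsg.hermForm, Matrix.mulVec_single_one, Matrix.col_apply] at this
    rw [Matrix.mul_apply, Matrix.smul_apply, Matrix.one_apply, smul_eq_mul]
    simp only [transpose_apply, map_apply, qFrob_apply]
    rw [this]
    congr 1
    rw [Finset.sum_eq_single i]
    · rcases eq_or_ne i j with rfl | hne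
      · simp
      · rw [if_neg hne, Pi.single_eq_same, one_mul, Pi.single_eq_of_ne hne, zero_pow (by omega)]
    · intro b _ hb
      rw [Pi.single_eq_of_ne hb, zero_mul]
    · simp
  have hfix : qFrob hF (c : F) = c := by
    have e' := congrArg (fun A : Matrix (Fin n) (Fin n) F => (A.map (qFrob hF))ᵀ) e
    simp only [Matrix.map_mul, transpose_mul, Matrix.map_map, transpose_map, transpose_transpose] at e'
    rw [show (⇑(qFrob hF) ∘ ⇑(qFrob hF)) = id from funext fun x => qFrob_qFrob hF x, Matrix.map_id, e] at e'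
    have := congrFun (congrFun e' 0) 0
    simp [Matrix.map_apply, transpose_apply, Matrix.smul_apply] at this
    exact this.symm
  have hc3 : (c : F) ^ 3 = 1 := by
    have key : ∀ m : ℕ, ((y ^ m : GL (Fin n) F) : Matrix (Fin n) (Fin n) F)ᵀ *
        ((y ^ m : GL (Fin n) F) : Matrix (Fin n) (Fin n) F).map (qFrob hF) = ((c : F) ^ m) • 1 := by
      intro m
      induction m with
      | zero => simp
      | succ m ih =>
        rw [pow_succ, Units.val_mul, transpose_mul, Matrix.map_mul, mul_assoc,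
          ← mul_assoc ((y ^ m : GL (Fin n) F) : Matrix (Fin n) (Fin n) F)ᵀ, ih, smul_mul_assoc, one_mul,
          mul_smul_comm, e, smul_smul, pow_succ]
    have := key 3
    rw [h3, Units.val_one, transpose_one, Matrix.map_one _ (map_zero _) (map_one _), mul_one] at this
    exact (smul_left_injective F (one_ne_zero (α := Matrix (Fin n) (Fin n) F))
      (this.symm.trans (one_smul F _).symm))
  rw [qFrob_apply, ← Nat.div_add_mod q 3, h1, pow_add, pow_mul, hc3, one_pow, one_mul] at hfix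
  have : (c : F) * ((c : F) - 1) = 0 := by linear_combination hfix
  rw [UMat, e, sub_eq_zero.1 ((mul_eq_zero.1 this).resolve_left c.ne_zero), one_smul]

/-- the symplectic type class of `SU₉`, given maximality in coordinates -/
theorem symp_clause (hF : Fintype.card F = q ^ 2)
    (hmax : ∀ (w : F) (h : SlNine.Root w), IsMaximalIn (uni (qFrob hF) I9 ⊓ specialLinear I9 F)
      (subgroupNormalizer (R9 h) ⊓ (uni (qFrob hF) I9 ⊓ specialLinear I9 F)))
    {p : ℕ} {R : Subgroup (GL (Fin 9) F)} (hp : p.Prime) (hqp : q = p) (h1 : p % 3 = 2)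
    (hs : IsSymplecticTypeGroup 3 R) (hirr : ActsAbsolutelyIrreducibly (matrixSet R))
    (hsim : R ≤ similarityGroup (Cfsg.hermForm 9 F q)) (hz : Nat.card (Subgroup.center R) = 3) :
    IsMaximalIn (Cfsg.GU 9 F q ⊓ specialLinear (Fin 9) F)
      (subgroupNormalizer R ⊓ (Cfsg.GU 9 F q ⊓ specialLinear (Fin 9) F)) := by
  have h3 : (3 : F) ≠ 0 := by
    obtain ⟨r, hr⟩ := CharP.exists F
    obtain ⟨n, hrp, hn⟩ := FiniteField.card F r
    have hd : r ∣ p ^ 2 := by rw [← hqp, ← hF, hn]; exact dvd_pow_self r n.pos.ne'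
    have hrp' := (Nat.prime_dvd_prime_iff_eq hrp hp).1 (hrp.dvd_of_dvd_pow hd)
    intro e
    have e' : ((3 : ℕ) : F) = 0 := by exact_mod_cast e
    have := (Nat.prime_dvd_prime_iff_eq hrp Nat.prime_three).1 ((CharP.cast_eq_zero_iff F r 3).1 e')
    omega
  obtain ⟨w, h, P, e, hP⟩ := exists_coord_of_sympType h3 hs hirr hz
  obtain ⟨σ, hσdef⟩ : ∃ σ, σ = qFrob hF := ⟨_, rfl⟩
  have hσσ : ∀ x, σ (σ x) = x := fun x => by rw [hσdef]; exact qFrob_qFrob hF x
  have hσw : σ w = w ^ 2 := by
    rw [hσdef, qFrob_apply, ← Nat.div_add_mod q 3, pow_add, pow_mul, h.cube, one_pow, one_mul, hqp, h1]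
  obtain ⟨E, hE⟩ : ∃ E : GL (Fin 9) F ≃* GL I9 F, E = (MulAut.conj P).trans (glReindex e) := ⟨_, rfl⟩
  rw [← hE] at hP
  obtain ⟨B, hB⟩ : ∃ B : GL I9 F, B = glReindex e P⁻¹ := ⟨_, rfl⟩
  have hEB : ∀ g, glReindex e g = B * E g * B⁻¹ := fun g => by
    rw [hE, hB]
    simp [map_mul, map_inv, mul_assoc]
  have hre : ∀ g : GL (Fin 9) F, UMat σ (glReindex e g : Matrix I9 I9 F) ↔ g ∈ Cfsg.GU 9 F q := fun g => by
    rw [mem_gu_iff hF, hσdef]
    exact umat_reindex (σ := qFrob hF) e.symm
  -- the form in the new coordinates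
  have hH : ∃ δ : F, δ ≠ 0 ∧ (B : Matrix I9 I9 F)ᵀ * (B : Matrix I9 I9 F).map σ = δ • 1 := by
    have hcomm : ∀ a b, (w9 w a b).map σ * ((B : Matrix I9 I9 F)ᵀ * (B : Matrix I9 I9 F).map σ) =
        ((B : Matrix I9 I9 F)ᵀ * (B : Matrix I9 I9 F).map σ) * (w9 w a b).map σ := by
      intro a b
      obtain ⟨x, hx, hxe⟩ : ∃ x ∈ R9 h, (x : Matrix I9 I9 F) = w9 w a b :=
        ⟨h.phased9.unit 0 a b, h.phased9.unit_mem 0 a b, by rw [h.phased9.coe_unit, ch_zero, one_smul]⟩
      rw [← hP] at hx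
      obtain ⟨y, hy, rfl⟩ := hx
      have hy3 : y ^ 3 = 1 := by
        have := Monoid.pow_exponent_eq_one (⟨y, hy⟩ : R)
        rw [hs.exponent_eq, show 3 * Nat.gcd 2 3 = 3 from rfl] at this
        exact congrArg Subtype.val this
      have hu := (hre y).2 ((mem_gu_iff hF y).2 (isometry_of_cube hF (by omega) (hsim hy) hy3))
      have hXX := umat_w9 (σ := σ) h hσw a b
      have e1 : (glReindex e y : Matrix I9 I9 F) * (B : Matrix I9 I9 F) =
          (B : Matrix I9 I9 F) * w9 w a b := by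
        rw [hEB, Units.val_mul, Units.val_mul, ← hxe, mul_assoc, Units.inv_mul, mul_one]
        rfl
      have e2 : (w9 w a b)ᵀ * ((B : Matrix I9 I9 F)ᵀ * (B : Matrix I9 I9 F).map σ) * (w9 w a b).map σ =
          (B : Matrix I9 I9 F)ᵀ * (B : Matrix I9 I9 F).map σ := by
        rw [← mul_assoc, ← transpose_mul, mul_assoc, ← Matrix.map_mul, ← e1, transpose_mul, Matrix.map_mul,
          mul_assoc, ← mul_assoc (glReindex e y : Matrix I9 I9 F)ᵀ, hu, one_mul]
      conv_lhs => rw [← e2, ← mul_assoc, ← mul_assoc, hXX.right, one_mul]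
    obtain ⟨c, hc, hce⟩ := scalar_of_comm_v9 h
      (X := Units.map (σ.mapMatrix : Matrix I9 I9 F →+* Matrix I9 I9 F).toMonoidHom
        ⟨(B : Matrix I9 I9 F)ᵀ * (B : Matrix I9 I9 F).map σ,
          ((B⁻¹ : GL I9 F) : Matrix I9 I9 F).map σ * ((B⁻¹ : GL I9 F) : Matrix I9 I9 F)ᵀ, by
          rw [mul_assoc, ← mul_assoc ((B : Matrix I9 I9 F).map σ), ← Matrix.map_mul, Units.mul_inv,
            Matrix.map_one σ (map_zero σ) (map_one σ), one_mul, ← transpose_mul, Units.inv_mul, transpose_one],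
          by
          rw [mul_assoc, ← mul_assoc ((B⁻¹ : GL I9 F) : Matrix I9 I9 F)ᵀ, ← transpose_mul, Units.mul_inv,
            transpose_one, one_mul, ← Matrix.map_mul, Units.inv_mul, Matrix.map_one σ (map_zero σ) (map_one σ)]⟩)
      fun p => by
        have e := congrArg (fun A : Matrix I9 I9 F => A.map σ) (hcomm p.1 p.2)
        simp only [Matrix.map_mul, Matrix.map_map, show (⇑σ ∘ ⇑σ) = id from funext hσσ, Matrix.map_id] at e
        simp only [Units.coe_map, RingHom.toMonoidHom_eq_coe, MonoidHom.coe_coe, RingHom.mapMatrix_apply,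
          Matrix.map_mul, Matrix.map_map, show (⇑σ ∘ ⇑σ) = id from funext hσσ, Matrix.map_id]
        exact e.symm
    refine ⟨σ c, fun e0 => hc ?_, ?_⟩
    · rw [← hσσ c, e0, map_zero]
    · have e := congrArg (fun A : Matrix I9 I9 F => A.map σ) hce
      simp only [Units.coe_map, RingHom.toMonoidHom_eq_coe, MonoidHom.coe_coe, RingHom.mapMatrix_apply,
        Matrix.map_map, show (⇑σ ∘ ⇑σ) = id from funext hσσ, Matrix.map_id] at e
      rw [e, Matrix.map_smul' σ c 1 (map_mul σ), Matrix.map_one σ (map_zero σ) (map_one σ)]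
  obtain ⟨δ, hδ0, hδ⟩ := hH
  have hiso : ∀ g, g ∈ Cfsg.GU 9 F q ↔ E g ∈ uni σ I9 := by
    intro g
    rw [← hre, mem_uni]
    have e1 : (glReindex e g : Matrix I9 I9 F) * (B : Matrix I9 I9 F) = (B : Matrix I9 I9 F) * (E g : GL I9 F) := by
      rw [hEB, Units.val_mul, Units.val_mul, mul_assoc, Units.inv_mul, mul_one]
    have e2 : (B : Matrix I9 I9 F)ᵀ * ((glReindex e g : Matrix I9 I9 F)ᵀ * (glReindex e g : Matrix I9 I9 F).map σ) *
        (B : Matrix I9 I9 F).map σ =
        δ • ((E g : Matrix I9 I9 F)ᵀ * (E g : Matrix I9 I9 F).map σ) := by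
      rw [← mul_assoc, ← transpose_mul, mul_assoc, ← Matrix.map_mul, e1, transpose_mul, Matrix.map_mul, mul_assoc,
        ← mul_assoc (B : Matrix I9 I9 F)ᵀ, hδ, smul_mul_assoc, one_mul, mul_smul_comm]
    constructor
    · intro hu
      rw [hu, mul_one, hδ] at e2
      exact (smul_right_injective (Matrix I9 I9 F) hδ0 e2).symm
    · intro hu
      rw [hu, ← hδ] at e2
      have u1 : IsUnit (B : Matrix I9 I9 F)ᵀ := (isUnit_transpose _).2 B.isUnit
      have u2 : IsUnit ((B : Matrix I9 I9 F).map σ) := B.isUnit.map σ.mapMatrix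
      refine u1.mul_left_cancel (u2.mul_right_cancel ?_)
      rw [e2, mul_one]
  have hGU : (Cfsg.GU 9 F q ⊓ specialLinear (Fin 9) F).map E.toMonoidHom =
      uni (qFrob hF) I9 ⊓ specialLinear I9 F := by
    rw [← hσdef, Subgroup.map_inf _ _ E.toMonoidHom E.injective]
    congr 1
    · ext x
      refine ⟨?_, fun hx => ⟨E.symm x, (hiso _).2 (by rwa [E.apply_symm_apply]), E.apply_symm_apply x⟩⟩
      rintro ⟨g, hg, rfl⟩
      exact (hiso g).1 hg
    · have hn : (specialLinear (Fin 9) F).Normal := MonoidHom.normal_ker _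
      have hc : (specialLinear (Fin 9) F).map (MulAut.conj P).toMonoidHom = specialLinear (Fin 9) F :=
        le_antisymm (Subgroup.map_le_iff_le_comap.2 fun x hx => hn.conj_mem x hx P) fun x hx =>
          ⟨P⁻¹ * x * P, by simpa using hn.conj_mem x hx P⁻¹, by simp [mul_assoc]⟩
      have e1 : (specialLinear (Fin 9) F).map E.toMonoidHom =
          ((specialLinear (Fin 9) F).map (MulAut.conj P).toMonoidHom).map (glReindex e).toMonoidHom := by
        rw [Subgroup.map_map, hE]; rfl
      rw [e1, hc, CfsgLib.MaxSub.TPowSL.map_specialLinear_glReindex]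
  have hnm : (subgroupNormalizer R).map E.toMonoidHom = subgroupNormalizer (R9 h) := by
    rw [subgroupNormalizer, subgroupNormalizer, Subgroup.map_equiv_normalizer_eq, hP]
  have hmap : ∀ K : Subgroup (GL (Fin 9) F), (K.map E.toMonoidHom).map E.symm.toMonoidHom = K := fun K => by
    rw [Subgroup.map_map, show E.symm.toMonoidHom.comp E.toMonoidHom = MonoidHom.id _ from
      MonoidHom.ext fun x => E.symm_apply_apply x, Subgroup.map_id]
  have := CfsgLib.MaxSub.isMaximalIn_map E.symm (hmax w h)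
  rwa [← hnm, ← hGU, ← Subgroup.map_inf _ _ E.toMonoidHom E.injective, hmap, hmap] at this

end CfsgLib.MaxSub.SuNine
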