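import Cfsg.Agent.Lib.MaxSub.SlNine.Nine
import Cfsg.Agent.Lib.Classical.SUOrder

/-!
Unitary matrices over any index type, and the unitary elements of the normaliser of the symplectic type group.
-/

set_option autoImplicit false
set_option linter.unusedSectionVars false

namespace CfsgLib.MaxSub.SuNine

open Matrix CfsgLib.MaxSub.SlNine
open scoped MatrixGroups

variable {F : Type*} [Field F] {α : Type} [Fintype α] [DecidableEq α] {σ : F →+* F}

/-- `X` preserves the standard form for `σ` -/
def UMat (σ : F →+* F) (X : Matrix α α F) : Prop := Xᵀ * X.map σ = 1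

namespace UMat

variable {X Y : Matrix α α F}

theorem mul (hX : UMat σ X) (hY : UMat σ Y) : UMat σ (X * Y) := by
  rw [UMat, transpose_mul, Matrix.map_mul, mul_assoc, ← mul_assoc Xᵀ, hX, one_mul, hY]

theorem one : UMat σ (1 : Matrix α α F) := by
  rw [UMat, transpose_one, Matrix.map_one σ (map_zero σ) (map_one σ), mul_one]

theorem smul (hX : UMat σ X) {c : F} (hc : c * σ c = 1) : UMat σ (c • X) := by
  rw [UMat, transpose_smul, Matrix.map_smul' σ c X (map_mul σ), smul_mul_smul_comm, hX, hc, one_smul]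

theorem neg (hX : UMat σ X) : UMat σ (-X) := by
  rw [← neg_one_smul F X]
  exact hX.smul (by rw [map_neg, map_one]; ring)

theorem right (hX : UMat σ X) : X.map σ * Xᵀ = 1 := mul_eq_one_comm.1 hX

end UMat

/-- the unitary group of the standard form -/
def uni (σ : F →+* F) (α : Type) [Fintype α] [DecidableEq α] : Subgroup (GL α F) where
  carrier := {g | UMat σ (g : Matrix α α F)}
  one_mem' := UMat.one
  mul_mem' {a b} ha hb := by
    show UMat σ ((a * b : GL α F) : Matrix α α F)
    rw [Units.val_mul]; exact UMat.mul ha hb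
  inv_mem' {g} hg := by
    show ((g⁻¹ : GL α F) : Matrix α α F)ᵀ * ((g⁻¹ : GL α F) : Matrix α α F).map σ = 1
    calc ((g⁻¹ : GL α F) : Matrix α α F)ᵀ * ((g⁻¹ : GL α F) : Matrix α α F).map σ
        = ((g⁻¹ : GL α F) : Matrix α α F)ᵀ * ((g : Matrix α α F)ᵀ * (g : Matrix α α F).map σ) *
            ((g⁻¹ : GL α F) : Matrix α α F).map σ := by rw [show (g : Matrix α α F)ᵀ * (g : Matrix α α F).map σ = 1 from hg, mul_one]
      _ = ((g : Matrix α α F) * ((g⁻¹ : GL α F) : Matrix α α F))ᵀ *
            ((g : Matrix α α F) * ((g⁻¹ : GL α F) : Matrix α α F)).map σ := by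
          rw [transpose_mul, Matrix.map_mul]; simp only [mul_assoc]
      _ = 1 := by rw [Units.mul_inv]; exact UMat.one

theorem mem_uni {g : GL α F} : g ∈ uni σ α ↔ UMat σ (g : Matrix α α F) := Iff.rfl

theorem mem_uni_of {g : GL α F} {X : Matrix α α F} (e : (g : Matrix α α F) = X) (h : UMat σ X) : g ∈ uni σ α :=
  mem_uni.2 (e ▸ h)

theorem umat_diagonal {d : α → F} (hd : ∀ i, d i * σ (d i) = 1) : UMat σ (diagonal d) := by
  rw [UMat, diagonal_transpose, Matrix.diagonal_map (map_zero σ), diagonal_mul_diagonal, ← diagonal_one]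
  exact congrArg diagonal (funext hd)

theorem umat_pm (e : Equiv.Perm α) : UMat σ (pm e : Matrix α α F) := by
  have h1 : (pm e : Matrix α α F)ᵀ = pm e⁻¹ := by
    ext i j
    rw [transpose_apply, pm_apply, pm_apply]
    exact if_congr ⟨fun h => by simp [h], fun h => by simp [h]⟩ rfl rfl
  have h2 : (pm e : Matrix α α F).map σ = pm e := by
    ext i j
    rw [map_apply, pm_apply, apply_ite σ, map_one, map_zero]
  rw [UMat, h1, h2, pm_inv_mul]

theorem umat_reindex {β : Type} [Fintype β] [DecidableEq β] (e : β ≃ α) {X : Matrix α α F} :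
    UMat σ (X.submatrix e e) ↔ UMat σ X := by
  have h1 : (X.submatrix e e)ᵀ * (X.submatrix e e).map σ = (Xᵀ * X.map σ).submatrix e e := by
    rw [transpose_submatrix, ← submatrix_map, submatrix_mul_equiv]
  rw [UMat, UMat, h1]
  refine ⟨fun h => ?_, fun h => by rw [h, submatrix_one_equiv]⟩
  ext i j
  simpa [Matrix.one_apply] using congrFun (congrFun h (e.symm i)) (e.symm j)

/-- block diagonal matrices are unitary exactly when the blocks are -/
theorem umat_bd {A : Z → Matrix Z Z F} : UMat σ (bd A) ↔ ∀ x, UMat σ (A x) := by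
  have e : (bd A)ᵀ * (bd A).map σ = bd fun x => (A x)ᵀ * (A x).map σ := by
    rw [← bd_mul]
    congr 1
    · ext i j
      rw [transpose_apply, bd_apply, bd_apply, transpose_apply]
      by_cases h : i.1 = j.1
      · rw [if_pos h, if_pos h.symm, h]
      · rw [if_neg h, if_neg fun h' => h h'.symm]
    · ext i j
      rw [map_apply, bd_apply, bd_apply, map_apply, apply_ite σ, map_zero]
  rw [UMat, e]
  refine ⟨fun h x => bd_inj (h.trans bd_one.symm) x, fun h => ?_⟩
  rw [show (fun x => (A x)ᵀ * (A x).map σ) = fun _ => 1 from funext h, bd_one]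

variable {w : F} (h : Root w) (hσ : σ w = w ^ 2)
include h hσ

theorem ch_norm (a : Z) : ch w a * σ (ch w a) = 1 := by
  rw [ch, map_pow, hσ, ← pow_mul, ← pow_add, show a.val + 2 * a.val = 3 * a.val by ring, pow_mul, h.cube, one_pow]

theorem map_ch (a : Z) : σ (ch w a) = ch w (-a) := by
  have : ch w (-a) * (ch w a * σ (ch w a)) = σ (ch w a) := by
    rw [← mul_assoc, ← h.ch_add, neg_add_cancel, ch_zero, one_mul]
  rw [← this, ch_norm h hσ, mul_one]

theorem umat_w3 (a b : Z) : UMat σ (w3 w a b) := (umat_diagonal fun _ => ch_norm h hσ _).mul (umat_pm _)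

theorem umat_w9 (a b : I9) : UMat σ (w9 w a b) := (umat_diagonal fun _ => ch_norm h hσ _).mul (umat_pm _)

theorem umat_phase (k : Z) : UMat σ (diagonal fun y : Z => ch w (k * (y * y))) :=
  umat_diagonal fun _ => ch_norm h hσ _

theorem umat_qd (a b c : Z) : UMat σ (qd w a b c) := umat_diagonal fun _ => ch_norm h hσ _

theorem umat_phi : UMat σ (phi w) := by
  have e1 : (phi w)ᵀ = phi w := by
    ext i j
    simp only [phi, transpose_apply, Matrix.smul_apply, Matrix.of_apply, mul_comm i j]
  have e2 : (phi w).map σ = phiInv w := by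
    ext i j
    simp only [phi, phiInv, map_apply, Matrix.smul_apply, Matrix.of_apply, smul_eq_mul, map_mul, map_inv₀, map_sub,
      map_pow, hσ, map_ch h hσ]
    rw [neg_inv, neg_sub]
    congr 2
    linear_combination (-w) * h.cube
  rw [UMat, e1, e2, phi_mul_phiInv h]

end CfsgLib.MaxSub.SuNine
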