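import Cfsg.Agent.Lib.MaxSub.SuNine.HessFive
import Cfsg.Agent.Lib.MaxSub.SuNine.Uni
import Cfsg.Agent.Lib.MaxSub.SuThree.Symp
import Cfsg.Agent.Lib.MaxSub.SlNine.SLInstance
import Cfsg.Agent.Lib.Classical.UnitaryGen

/-!
The block group `GU₃` for the symplectic type normaliser in `SU₉`: overgroups of the twisted Hessian group, and
subgroups normalised by `SU₃`.
-/

set_option autoImplicit false
set_option linter.unusedSectionVars false

namespace CfsgLib.MaxSub.SuNine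

open Matrix CfsgLib.MaxSub CfsgLib.MaxSub.SlNine Cfsg.Geo
open scoped MatrixGroups

variable {F : Type*} [Field F] [Fintype F] {q : ℕ} (hF : Fintype.card F = q ^ 2)

/-- the block group -/
noncomputable abbrev GUZ : Subgroup (GL Z F) := uni (CfsgLib.Classical.qFrob hF) Z

/-- its special part -/
noncomputable abbrev SUZ : Subgroup (GL Z F) := GUZ hF ⊓ specialLinear Z F

theorem conj_SUZ {g x : GL Z F} (hg : g ∈ GUZ hF) (hx : x ∈ SUZ hF) : g * x * g⁻¹ ∈ SUZ hF :=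
  ⟨(GUZ hF).mul_mem ((GUZ hF).mul_mem hg hx.1) ((GUZ hF).inv_mem hg), mem_sl_conj hx.2⟩

omit [Fintype F] in
/-- reading a matrix group element on the affine line -/
def toZ : GL (Fin 3) F ≃* GL Z F where
  toFun g := g
  invFun g := g
  left_inv _ := rfl
  right_inv _ := rfl
  map_mul' _ _ := rfl

omit [Fintype F] in
theorem z_ext {A : Matrix Z Z F} {B : Matrix (Fin 3) (Fin 3) F}
    (h : ∀ i j : Fin 3, B i j = A (i.val : Z) (j.val : Z)) : (B : Matrix Z Z F) = A :=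
  Matrix.ext fun i j => (h i j).trans
    (congr_arg₂ A (ZMod.natCast_zmod_val (n := 3) i) (ZMod.natCast_zmod_val (n := 3) j))

omit [Fintype F] in
theorem toZ_sl {g : GL (Fin 3) F} : toZ g ∈ specialLinear Z F ↔ g ∈ specialLinear (Fin 3) F := by
  rw [mem_sl3, SlThree.Extra.mem_sl]
  exact Iff.rfl

theorem toZ_gu {g : GL (Fin 3) F} : toZ g ∈ GUZ hF ↔ g ∈ Cfsg.GU 3 F q :=
  (CfsgLib.Classical.mem_gu_iff hF g).symm

variable {w : F} (h : SlNine.Root w) (hw : SlThree.Extra.Root w)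
include h

omit [Fintype F] in
theorem w3_pow (a b : Z) : ∀ n : ℕ, ∃ (c : Z), w3 w a b ^ n = ch w c • w3 w ((n : Z) * a) ((n : Z) * b)
  | 0 => ⟨0, by simp [w3_zero, ch_zero]⟩
  | n + 1 => by
    obtain ⟨c, hc⟩ := w3_pow a b n
    refine ⟨c + -(a * ((n : Z) * b)), ?_⟩
    rw [pow_succ, hc, smul_mul_assoc, h.w3_mul, smul_smul, ← h.ch_add]
    congr 2 <;> push_cast <;> ring

omit [Fintype F] in
theorem toZ_dG : (toZ (SlThree.Extra.dG hw) : Matrix Z Z F) = w3 w 1 0 := by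
  refine z_ext (B := !![1, 0, 0; 0, w, 0; 0, 0, w * w]) fun i j => ?_
  rw [w3_apply]
  fin_cases i <;> fin_cases j <;>
    simp +decide [ch, ZMod.val_one, show ZMod.val (2 : Z) = 2 from rfl, pow_two]

omit [Fintype F] in
theorem toZ_shG : (toZ (SlThree.Extra.shG : GL (Fin 3) F) : Matrix Z Z F) = w3 w 0 1 := by
  refine z_ext (B := !![0, 0, 1; 1, 0, 0; 0, 1, 0]) fun i j => ?_
  rw [w3_apply]
  fin_cases i <;> fin_cases j <;> simp +decide [ch]

omit [Fintype F] in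
theorem toZ_twG : (toZ (SlThree.Extra.twG hw) : Matrix Z Z F) = diagonal fun y : Z => ch w (y * y) := by
  refine z_ext (B := !![1, 0, 0; 0, w, 0; 0, 0, w]) fun i j => ?_
  fin_cases i <;> fin_cases j <;>
    simp +decide [Matrix.diagonal_apply, ch, show (2 : Z) * 2 = 1 from rfl, ZMod.val_one]

omit [Fintype F] in
theorem toZ_scG (c : Fˣ) : (toZ (SlThree.Extra.scG c) : Matrix Z Z F) = (c : F) • 1 :=
  SlThree.Extra.coe_scG c

omit [Fintype F] in
/-- the two copies of the group of order `27` agree -/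
theorem toZ_mem_R3 {x : GL (Fin 3) F} : toZ x ∈ R3 h ↔ x ∈ SlThree.Extra.heis hw := by
  have hd : toZ (SlThree.Extra.dG hw) ∈ R3 h :=
    ⟨0, 1, 0, by rw [ch_zero, one_smul]; exact toZ_dG h hw⟩
  have hs : toZ (SlThree.Extra.shG : GL (Fin 3) F) ∈ R3 h :=
    ⟨0, 0, 1, by rw [ch_zero, one_smul]; exact toZ_shG h⟩
  constructor
  · rintro ⟨k, a, b, e⟩
    obtain ⟨u, hu⟩ : ∃ u : Fˣ, (u : F) = ch w k := ⟨Units.mk0 _ (h.ch_ne_zero k), rfl⟩
    have ex : x = SlThree.Extra.scG u * SlThree.Extra.dG hw ^ a.val * SlThree.Extra.shG ^ b.val := by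
      refine toZ.injective (Units.ext ?_)
      rw [map_mul, map_mul, map_pow, map_pow, Units.val_mul, Units.val_mul, Units.val_pow_eq_pow_val,
        Units.val_pow_eq_pow_val, toZ_dG h hw, toZ_shG h, toZ_scG h, e, hu, smul_mul_assoc, smul_mul_assoc, one_mul]
      obtain ⟨c1, h1⟩ := w3_pow h 1 0 a.val
      obtain ⟨c2, h2⟩ := w3_pow h 0 1 b.val
      have e1 : w3 w 1 0 ^ a.val = w3 w a 0 := by
        rw [w3, show Equiv.addRight (0 : Z) = 1 from Equiv.ext fun x => add_zero x, pm_one, mul_one, diagonal_pow,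
          w3, show Equiv.addRight (0 : Z) = 1 from Equiv.ext fun x => add_zero x, pm_one, mul_one]
        refine congrArg diagonal (funext fun y => ?_)
        rw [Pi.pow_apply, one_mul, ch, ch, ← pow_mul, mul_comm, ZMod.val_mul, ← pow_eq_pow_mod _ h.cube]
      have e2 : w3 w 0 1 ^ b.val = w3 w 0 b := by
        have : ∀ n : ℕ, w3 w 0 1 ^ n = w3 w 0 (n : Z) := fun n => by
          induction n with
          | zero => simp [w3_zero]
          | succ n ih => rw [pow_succ, ih, h.w3_mul]; simp [ch_zero]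
        rw [this, ZMod.natCast_zmod_val]
      rw [e1, e2, h.w3_mul]
      simp [ch_zero]
    rw [ex]
    refine mul_mem (mul_mem ⟨SlThree.Extra.scG_mem_heisC hw u, ?_⟩ (pow_mem (SlThree.Extra.dG_mem hw) _))
      (pow_mem (SlThree.Extra.shG_mem hw) _)
    show SlThree.Extra.scG u ∈ specialLinear (Fin 3) F
    rw [SlThree.Extra.mem_sl, SlThree.Extra.coe_scG, det_smul, det_one, mul_one, Fintype.card_fin,
      hu, h.ch_cube]
  · intro hx
    obtain ⟨c, j, k, hc, rfl⟩ := SlThree.Extra.exists_form_heis hw hx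
    rw [map_mul, map_mul, map_pow, map_pow]
    refine mul_mem (mul_mem ?_ (pow_mem hd _)) (pow_mem hs _)
    obtain ⟨a, ha⟩ := h.eq_ch hc
    exact ⟨a, 0, 0, by rw [toZ_scG h, ha, w3_zero]⟩

theorem nm3_iff {g : GL (Fin 3) F} :
    Nm3 w (toZ g : Matrix Z Z F) ↔ g ∈ Subgroup.normalizer (SlThree.Extra.heis hw : Set (GL (Fin 3) F)) := by
  rw [← normalizer_iff3 h, subgroupNormalizer, Subgroup.mem_normalizer_iff, Subgroup.mem_normalizer_iff]
  refine ⟨fun hg x => ?_, fun hg y => ?_⟩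
  · rw [← toZ_mem_R3 h hw, ← toZ_mem_R3 h hw, map_mul, map_mul, map_inv]
    exact hg (toZ x)
  · obtain ⟨x, rfl⟩ := toZ.surjective y
    have := hg x
    rw [← toZ_mem_R3 h hw, ← toZ_mem_R3 h hw, map_mul, map_mul, map_inv] at this
    exact this

variable {hF}

/-- The conjugates of the group of order `27` by an element normalising a group of normalising elements lie in it. -/
theorem nm3_of_conj {g : GL Z F} {H0 : Subgroup (GL Z F)} (hH : ∀ n ∈ H0, Nm3 w (n : Matrix Z Z F))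
    (hHs : H0 ≤ specialLinear Z F) (hR : R3 h ≤ H0) {φ : GL Z F} (hφ : (φ : Matrix Z Z F) = phi w) (hφH : φ ∈ H0)
    (hconj : ∀ n ∈ H0, g * n * g⁻¹ ∈ H0) (hconj' : ∀ n ∈ H0, g⁻¹ * n * g ∈ H0) :
    Nm3 w (g : Matrix Z Z F) := by
  classical
  haveI : Finite (GL Z F) := Finite.of_injective (fun g => (g : Matrix Z Z F)) fun _ _ => Units.ext
  have key : ∀ α β : Z × Z, let f : Z × Z → Z × Z := fun u => u.1.val • α + u.2.val • β
      (f (f (f (1, 0))) = (1, 0) ∧ f (f (f (0, 1))) = (0, 1)) →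
      (let k : Z × Z → Z × Z := fun u =>
        f (let y := f (f (-u.2, u.1)); (y.2, -y.1))
       k (k (k (1, 0))) = (1, 0) ∧ k (k (k (0, 1))) = (0, 1)) →
      α = (1, 0) ∧ β = (0, 1) := by decide +kernel
  rw [← normalizer_iff3 h]
  refine Subgroup.mem_normalizer_fintype fun r hr => ?_
  show g * r * g⁻¹ ∈ R3 h
  obtain ⟨x, hx⟩ : ∃ x, x = g * r * g⁻¹ := ⟨_, rfl⟩
  rw [← hx]
  have hxH : x ∈ H0 := hx ▸ hconj r (hR hr)
  have hcube : ∀ n ∈ H0, ((n * x * n⁻¹) * x⁻¹) ^ 3 = 1 := by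
    intro n hn
    have hnR : (g⁻¹ * n * g) * r * (g⁻¹ * n * g)⁻¹ ∈ R3 h :=
      (Subgroup.mem_normalizer_iff.1 ((normalizer_iff3 h).2 (hH _ (hconj' n hn))) r).1 hr
    have : ((g⁻¹ * n * g) * r * (g⁻¹ * n * g)⁻¹ * r⁻¹) ^ 3 = 1 :=
      h.phased3.pow_three ((R3 h).mul_mem hnR ((R3 h).inv_mem hr))
    rw [show (n * x * n⁻¹) * x⁻¹ = g * ((g⁻¹ * n * g) * r * (g⁻¹ * n * g)⁻¹ * r⁻¹) * g⁻¹ by rw [hx]; group,
      conj_pow, this, mul_one, mul_inv_cancel]
  have hx3 : x ^ 3 = 1 := by rw [hx, conj_pow, h.phased3.pow_three hr, mul_one, mul_inv_cancel]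
  have hd : ∀ y ∈ H0, (y : Matrix Z Z F).det ≠ 0 := fun y hy => by
    rw [mem_sl3.1 (hHs hy)]; exact one_ne_zero
  obtain ⟨α, hα⟩ := (hH x hxH).sends (1, 0)
  obtain ⟨β, hβ⟩ := (hH x hxH).sends (0, 1)
  obtain ⟨f, hf⟩ : ∃ f : Z × Z → Z × Z, f = fun u => u.1.val • α + u.2.val • β := ⟨_, rfl⟩
  have hfs : ∀ u, Sends w (x : Matrix Z Z F) u (f u) := fun u => by rw [hf]; exact Sends.of_basis h hα hβ u
  have honeOf : ∀ {y : GL Z F} {k : Z × Z → Z × Z}, y ^ 3 = 1 → (∀ u, Sends w (y : Matrix Z Z F) u (k u)) →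
      ∀ u, k (k (k u)) = u := fun {y k} hy3 hk u => by
    have := (hk _).mul ((hk _).mul (hk u))
    rw [← Units.val_mul, ← Units.val_mul, ← pow_two, ← pow_succ', hy3, Units.val_one] at this
    exact Sends.unique h (by simp) this (Sends.one u)
  obtain ⟨y, hy⟩ : ∃ y, y = φ * x⁻¹ * φ⁻¹ := ⟨_, rfl⟩
  have hys : ∀ u, Sends w (y : Matrix Z Z F) u (let z := f (f (-u.2, u.1)); (z.2, -z.1)) := by
    intro u
    have hxi : x⁻¹ = x * x := by
      refine inv_eq_of_mul_eq_one_right ?_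
      rw [← pow_two, ← pow_succ', hx3]
    have hφi : Sends w ((φ⁻¹ : GL Z F) : Matrix Z Z F) u (-u.2, u.1) := by
      obtain ⟨c, hc⟩ : Sends w (φ : Matrix Z Z F) (-u.2, u.1) u := by
        have := sends_phi h (-u.2, u.1)
        rw [← hφ] at this
        simpa using this
      have hc0 : c ≠ 0 := fun e0 => by
        rw [e0, zero_smul] at hc
        have := congrArg Matrix.det hc
        rw [det_mul, Matrix.det_zero] at this
        exact mul_ne_zero (hd φ hφH) (det_w3_ne h _ _) this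
      refine ⟨c⁻¹, ?_⟩
      have e' := congrArg (fun A : Matrix Z Z F =>
        ((φ⁻¹ : GL Z F) : Matrix Z Z F) * A * ((φ⁻¹ : GL Z F) : Matrix Z Z F)) hc
      simp only [Matrix.mul_smul, Matrix.smul_mul, mul_assoc, Units.mul_inv, mul_one] at e'
      rw [← mul_assoc, Units.inv_mul, one_mul] at e'
      rw [e', smul_smul, inv_mul_cancel₀ hc0, one_smul]
    rw [hy, Units.val_mul, Units.val_mul, hxi, Units.val_mul, hφ]
    exact ((sends_phi h _).mul ((hfs _).mul (hfs _))).mul hφi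
  have hxy : (x * y) ^ 3 = 1 := by
    rw [show x * y = ((φ * x * φ⁻¹) * x⁻¹)⁻¹ by rw [hy]; group, inv_pow, hcube φ hφH, inv_one]
  obtain ⟨k, hk⟩ : ∃ k : Z × Z → Z × Z, k = fun u => f (let z := f (f (-u.2, u.1)); (z.2, -z.1)) := ⟨_, rfl⟩
  have hks : ∀ u, Sends w ((x * y : GL Z F) : Matrix Z Z F) u (k u) := fun u => by
    rw [hk, Units.val_mul]; exact (hfs _).mul (hys u)
  have hone := honeOf hx3 hfs
  have hone' := honeOf hxy hks
  subst hk; subst hf
  obtain ⟨rfl, rfl⟩ := key α β ⟨hone _, hone _⟩ ⟨hone' _, hone' _⟩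
  obtain ⟨c, v, hc⟩ := eq_w3_of_sends h (hd x hxH) hα hβ
  have hc3 : c ^ 3 = 1 := by
    have := mem_sl3.1 (hHs hxH)
    rwa [hc, det_smul, ZMod.card, det_w3 h, mul_one] at this
  obtain ⟨j, rfl⟩ := h.eq_ch hc3
  exact mem_R3.2 ⟨j, v.1, v.2, hc⟩

variable (hσ : CfsgLib.Classical.qFrob hF w = w ^ 2)
include hσ

theorem w3_mem_SUZ (a b : Z) : Mem (SUZ hF) (w3 w a b) := by
  obtain ⟨g, hg, e⟩ := mem_sl_of_det (det_w3 h a b)
  exact ⟨g, ⟨mem_uni_of e (umat_w3 h hσ a b), hg⟩, e⟩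

theorem phi_mem_SUZ : Mem (SUZ hF) (phi w) := by
  obtain ⟨g, hg, e⟩ := mem_sl_of_det (det_phi h)
  exact ⟨g, ⟨mem_uni_of e (umat_phi h hσ), hg⟩, e⟩

theorem R3_le_SUZ : R3 h ≤ SUZ hF := by
  rintro g ⟨k, a, b, e⟩
  refine ⟨mem_uni_of e ((umat_w3 h hσ a b).smul (ch_norm h hσ k)), mem_sl3.2 ?_⟩
  rw [e, det_smul, ZMod.card, h.ch_cube, det_w3 h, one_mul]

/-- Overgroups of the twisted Hessian group in `GU₃(p)`, `p` odd. -/
theorem dich_odd {p : ℕ} (hp : p.Prime) (hqp : q = p) (hp2 : p ≠ 2) (h1 : p % 3 = 2) {P : Subgroup (GL Z F)}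
    (hPG : P ≤ GUZ hF) (hP : ∀ g ∈ SUZ hF, Nm3 w (g : Matrix Z Z F) → g ∈ P)
    (htw : Mem P (diagonal fun y : Z => ch w (y * y))) :
    (∀ g ∈ P, Nm3 w (g : Matrix Z Z F)) ∨ SUZ hF ≤ P := by
  classical
  subst hqp
  have hc : CharP F q := by
    obtain ⟨r, hr⟩ := CharP.exists F
    obtain ⟨n, hrp, hn⟩ := FiniteField.card F r
    have h : r ∣ q ^ 2 := by rw [← hF, hn]; exact dvd_pow_self r n.pos.ne'
    exact (Nat.prime_dvd_prime_iff_eq hrp hp).1 (hrp.dvd_of_dvd_pow h) ▸ hr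
  have h2 : (2 : F) ≠ 0 := fun e => hp2 ((Nat.prime_dvd_prime_iff_eq hp Nat.prime_two).1
    ((CharP.cast_eq_zero_iff F q 2).1 (by exact_mod_cast e)))
  have hw : SlThree.Extra.Root w := ⟨by rw [← pow_two]; exact h.eq, h.three, h2⟩
  have hσ' : qConj hF w = w * w := by rw [← pow_two]; exact hσ
  have hq3 : 3 ≤ q := by have := hp.two_le; omega
  obtain ⟨H0, hH0⟩ : ∃ H0, H0 = P ⊓ SUZ hF := ⟨_, rfl⟩
  obtain ⟨M, hMdef⟩ : ∃ M : Subgroup (GL (Fin 3) F), M = H0.comap toZ.toMonoidHom := ⟨_, rfl⟩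
  have hmemM : ∀ g, g ∈ M ↔ toZ g ∈ P ∧ toZ g ∈ GUZ hF ∧ toZ g ∈ specialLinear Z F := fun g => by
    rw [hMdef, hH0]; exact Iff.rfl
  have hmk : ∀ g : GL (Fin 3) F, g ∈ Cfsg.GU 3 F q → g ∈ specialLinear (Fin 3) F →
      g ∈ Subgroup.normalizer (SlThree.Extra.heis hw : Set (GL (Fin 3) F)) → g ∈ M := fun g hu hl hn =>
    (hmemM g).2 ⟨hP _ ⟨(toZ_gu hF).2 hu, toZ_sl.2 hl⟩ ((nm3_iff h hw).2 hn), (toZ_gu hF).2 hu, toZ_sl.2 hl⟩
  have hR : R3 h ≤ H0 := fun r hr => by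
    rw [hH0]
    exact ⟨hP r (R3_le_SUZ h hσ hr) ((normalizer_iff3 h).1 (Subgroup.le_normalizer hr)), R3_le_SUZ h hσ hr⟩
  have hO : SlThree.Extra.Over hw M :=
    { sl := fun g hg => toZ_sl.1 ((hmemM g).1 hg).2.2
      heis_le := fun x hx => by rw [hMdef]; exact hR ((toZ_mem_R3 h hw).2 hx)
      q1 := hmk _ (SuThree.q1G_mem_gu hF hσ') (SlThree.Extra.q1G_mem_sl hw) (SlThree.Extra.q1G_normalizes hw)
      q2 := hmk _ (SuThree.q2G_mem_gu hF hσ') (SlThree.Extra.q2G_mem_sl hw) (SlThree.Extra.q2G_normalizes hw) }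
  have hMG : M ≤ Cfsg.GU 3 F q ⊓ specialLinear (Fin 3) F := fun g hg =>
    ⟨(toZ_gu hF).1 ((hmemM g).1 hg).2.1, toZ_sl.1 ((hmemM g).1 hg).2.2⟩
  have hconj : ∀ g ∈ P, ∀ n ∈ H0, g * n * g⁻¹ ∈ H0 := fun g hg n hn => by
    rw [hH0] at hn ⊢
    exact ⟨P.mul_mem (P.mul_mem hg hn.1) (P.inv_mem hg), conj_SUZ hF (hPG hg) hn.2⟩
  by_cases hT : SlThree.Extra.NoTv M
  swap
  · right
    intro g hg
    obtain ⟨g, rfl⟩ := toZ.surjective g
    exact ((hmemM g).1 (SuThree.su_le_of_heis (hw := hw) hF hp rfl hc hq3 hMG (hO.heis_le (SlThree.Extra.dG_mem hw))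
      (hO.heis_le (SlThree.Extra.shG_mem hw)) hT ⟨(toZ_gu hF).1 hg.1, toZ_sl.1 hg.2⟩)).1
  left
  have hN : M ≤ Subgroup.normalizer (SlThree.Extra.heis hw : Set (GL (Fin 3) F)) := by
    by_cases h5 : q = 5
    · refine le_normalizer_five hF h5 (h5 ▸ hc) hO (fun g hg => (hMG hg).1) hT fun x hx => ?_
      obtain ⟨t, ht, hte⟩ := htw
      rw [hMdef, Subgroup.mem_comap, MulEquiv.coe_toMonoidHom] at hx ⊢
      rw [map_mul, map_mul, map_inv, show toZ (SlThree.Extra.twG hw) = t from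
        Units.ext ((toZ_twG h hw).trans hte.symm)]
      exact hconj t ht _ hx
    · exact hO.le_normalizer_of_noTv hT hp hc h5
  obtain ⟨φ, hφS, hφ⟩ := phi_mem_SUZ h hσ
  intro g hg
  refine nm3_of_conj h (H0 := H0) (fun n hn => ?_) (fun n hn => ?_) hR hφ ?_ (hconj g hg) fun n hn => ?_
  · obtain ⟨n, rfl⟩ := toZ.surjective n
    exact (nm3_iff h hw).2 (hN (by rw [hMdef]; exact hn))
  · rw [hH0] at hn; exact hn.2.2
  · rw [hH0]; exact ⟨hP φ hφS (hφ ▸ nm3_phi h), hφS⟩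
  · simpa using hconj g⁻¹ (P.inv_mem hg) n hn

/-- A subgroup of `GU₃` normalised by `SU₃` which has a non-scalar element contains `SU₃`. -/
theorem normal_top (hq : 3 ≤ q) (L : Subgroup (GL Z F)) (hLG : L ≤ GUZ hF)
    (hn : ∀ g ∈ SUZ hF, ∀ x ∈ L, g * x * g⁻¹ ∈ L)
    (hx : ∃ x ∈ L, ∀ c : F, (x : Matrix Z Z F) ≠ c • 1) : SUZ hF ≤ L := by
  classical
  have := CfsgLib.Classical.isSimpleGroup_psu hF (n := 3) le_rfl (by omega)
  obtain ⟨toG, htoG⟩ : ∃ f : Cfsg.SU 3 F q →* GL Z F,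
      f = toZ.toMonoidHom.comp (Matrix.SpecialLinearGroup.toGL.comp (Cfsg.SU 3 F q).subtype) := ⟨_, rfl⟩
  have htoS : ∀ A, toG A ∈ SUZ hF := fun A => by
    rw [htoG]
    exact ⟨(toZ_gu hF).2 fun u v => A.2 u v, toZ_sl.2 (SlThree.Extra.mem_sl.2 A.1.2)⟩
  have hlift : ∀ g ∈ SUZ hF, ∃ A, toG A = g := fun g hg => by
    obtain ⟨g, rfl⟩ := toZ.surjective g
    exact ⟨⟨⟨_, SlThree.Extra.mem_sl.1 (toZ_sl.1 hg.2)⟩, fun u v => (toZ_gu hF).1 hg.1 u v⟩,
      by rw [htoG]; exact Units.ext rfl⟩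
  have hscal : ∀ {X : Matrix Z Z F}, (∀ A, X * (toG A : Matrix Z Z F) = (toG A : Matrix Z Z F) * X) →
      ∃ k : F, X = k • 1 := fun {X} hX => by
    refine (R3_actsAbsolutelyIrreducibly h).2 _ ?_
    rintro _ ⟨r, hr, rfl⟩
    obtain ⟨A, hA⟩ := hlift r (R3_le_SUZ h hσ hr)
    rw [← hA]
    exact hX A
  obtain ⟨K, hK⟩ : ∃ K : Subgroup (Cfsg.SU 3 F q), K = L.comap toG := ⟨_, rfl⟩
  haveI hKn : K.Normal := ⟨fun a ha b => by
    rw [hK] at ha ⊢
    simp only [Subgroup.mem_comap, map_mul, map_inv] at ha ⊢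
    exact hn _ (htoS b) _ ha⟩
  have hgen : Subgroup.closure {A : ↥(Cfsg.SU 3 F q) | ∃ (v : Fin 3 → F) (c : F),
      Cfsg.hermForm 3 F q v v = 0 ∧ ((A : Matrix.SpecialLinearGroup (Fin 3) F) : Matrix (Fin 3) (Fin 3) F) =
        Cfsg.unitaryTransvection 3 q v c} = ⊤ :=
    CfsgLib.Classical.closure_transvections_eq_top hF le_rfl (by omega)
  have hKc : ¬ K ≤ Subgroup.center _ := by
    intro hc
    obtain ⟨x, hxL, hns⟩ := hx
    have hcent : ∀ A, toG A * x = x * toG A := by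
      intro A
      refine Subgroup.closure_induction (p := fun A _ => toG A * x = x * toG A) ?_ (by simp)
        (fun a b _ _ ha hb => by
          rw [map_mul, mul_assoc, hb, ← mul_assoc, ha, mul_assoc])
        (fun a _ ha => by
          rw [map_inv]; exact ((Commute.inv_left (show Commute (toG a) x from ha))).eq)
        (hgen.symm ▸ Subgroup.mem_top A)
      rintro A ⟨v, c, hv, hA⟩
      have hm : toG A * x * (toG A)⁻¹ * x⁻¹ ∈ L := L.mul_mem (hn _ (htoS A) _ hxL) (L.inv_mem hxL)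
      have hS : toG A * x * (toG A)⁻¹ * x⁻¹ ∈ SUZ hF := by
        rw [show toG A * x * (toG A)⁻¹ * x⁻¹ = toG A * (x * (toG A)⁻¹ * x⁻¹) by group]
        exact (SUZ hF).mul_mem (htoS A) (conj_SUZ hF (hLG hxL) ((SUZ hF).inv_mem (htoS A)))
      obtain ⟨B, hB⟩ := hlift _ hS
      have hBc := hc (show B ∈ K by rw [hK, Subgroup.mem_comap, hB]; exact hm)
      obtain ⟨k, hk⟩ := hscal (X := (toG B : Matrix Z Z F)) fun Y => by
        rw [← Units.val_mul, ← Units.val_mul, ← map_mul, ← map_mul, Subgroup.mem_center_iff.1 hBc Y]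
      rw [hB] at hk
      -- compare traces
      have h1 : ((toG A * x * (toG A)⁻¹ : GL Z F) : Matrix Z Z F) = k • (x : Matrix Z Z F) := by
        rw [show toG A * x * (toG A)⁻¹ = (toG A * x * (toG A)⁻¹ * x⁻¹) * x by group, Units.val_mul, hk,
          smul_mul_assoc, one_mul]
      have h2 : ((x⁻¹ * toG A * x : GL Z F) : Matrix Z Z F) = k • (toG A : Matrix Z Z F) := by
        rw [show x⁻¹ * toG A * x = x⁻¹ * (toG A * x * (toG A)⁻¹) * toG A by group, Units.val_mul, Units.val_mul, h1,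
          mul_smul_comm, Units.inv_mul, smul_mul_assoc, one_mul]
      have ht := congrArg Matrix.trace h2
      rw [Matrix.trace_smul, Units.val_mul, Matrix.trace_mul_comm, Units.val_mul, ← mul_assoc, Units.mul_inv,
        one_mul] at ht
      have htr : (toG A : Matrix Z Z F).trace = 3 := by
        rw [htoG]
        show ((A : Matrix.SpecialLinearGroup (Fin 3) F) : Matrix (Fin 3) (Fin 3) F).trace = 3
        rw [hA, Cfsg.unitaryTransvection, Matrix.trace_add, Matrix.trace_one, Matrix.trace_smul, Fintype.card_fin]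
        rw [show Matrix.trace (Matrix.vecMulVec v fun j => v j ^ q) = Cfsg.hermForm 3 F q v v from
          Matrix.trace_vecMulVec _ _, hv, smul_zero, add_zero]
        norm_num
      rw [htr, smul_eq_mul] at ht
      have hk1 : k = 1 := mul_right_cancel₀ h.three (by rw [one_mul]; exact ht.symm)
      rw [hk1, one_smul] at h1
      calc toG A * x = toG A * x * (toG A)⁻¹ * toG A := by group
        _ = x * toG A := by rw [Units.ext h1]
    obtain ⟨k, hk⟩ := hscal (X := (x : Matrix Z Z F)) fun A => by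
      rw [← Units.val_mul, ← Units.val_mul, hcent A]
    exact hns k hk
  have htop : K ⊔ Subgroup.center (Cfsg.SU 3 F q) = ⊤ := by
    rcases Subgroup.Normal.eq_bot_or_eq_top (H := K.map (QuotientGroup.mk' (Subgroup.center (Cfsg.SU 3 F q))))
      (hKn.map _ (QuotientGroup.mk'_surjective _)) with e | e
    · rw [Subgroup.map_eq_bot_iff, QuotientGroup.ker_mk'] at e
      exact absurd e hKc
    · have := congrArg (Subgroup.comap (QuotientGroup.mk' (Subgroup.center (Cfsg.SU 3 F q)))) e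
      rw [Subgroup.comap_map_eq, QuotientGroup.ker_mk', Subgroup.comap_top] at this
      exact this
  have hKtop : K = ⊤ := by
    rw [eq_top_iff, ← hgen, Subgroup.closure_le]
    rintro A ⟨v, c, hv, hA⟩
    obtain ⟨a, b, rfl⟩ := CfsgLib.Classical.transvection_mem_commutatorSet hF le_rfl (by omega) A hv hA
    obtain ⟨a', ha', za, hza, rfl⟩ : ∃ a' ∈ K, ∃ za ∈ Subgroup.center (Cfsg.SU 3 F q), a' * za = a := by
      rw [← Subgroup.mem_sup_of_normal_left, htop]; exact Subgroup.mem_top a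
    rw [SetLike.mem_coe, commutatorElement_def]
    have hz : za * b * za⁻¹ = b := by rw [← Subgroup.mem_center_iff.1 hza b, mul_inv_cancel_right]
    rw [show a' * za * b * (a' * za)⁻¹ * b⁻¹ = a' * (za * b * za⁻¹) * a'⁻¹ * b⁻¹ by group, hz,
      show a' * b * a'⁻¹ * b⁻¹ = a' * (b * a'⁻¹ * b⁻¹) by group]
    exact K.mul_mem ha' (hKn.conj_mem _ (K.inv_mem ha') b)
  intro g hg
  obtain ⟨A, rfl⟩ := hlift g hg
  have : A ∈ K := hKtop ▸ Subgroup.mem_top A
  rw [hK] at this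
  exact this

end CfsgLib.MaxSub.SuNine
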