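import Cfsg.Agent.Lib.MaxSub.SlThree.ExtraMain
import Cfsg.Agent.Lib.Classical.HermOrder
import Cfsg.Agent.Lib.Recog.PlaneThirteen

/-!
A subgroup of `SU₃(5)` over the Hessian group which is normalised by the twist and has no transvection normalises
the group of order `27`.
-/

set_option autoImplicit false
set_option linter.unusedSectionVars false

namespace CfsgLib.MaxSub.SuNine

open Matrix CfsgLib.MaxSub CfsgLib.MaxSub.SlThree CfsgLib.MaxSub.SlThree.Extra
open scoped MatrixGroups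

variable {F : Type*} [Field F] [Fintype F] {w : F} {hw : Root w} {M : Subgroup (GL (Fin 3) F)}

/-- In the dihedral shape the four-group is central, so the shape is impossible when an element of order three
permutes the four-group. -/
theorem pair_false {G : Type*} [Group G] [Finite G] (D : Shape G F) {τ : PGL(2, F)} (h3 : τ * τ * τ = 1)
    (hab : τ * D.φ D.u * τ⁻¹ = D.φ D.v) (hτ : ∀ x ∈ D.φ.range, τ * x * τ⁻¹ ∈ D.φ.range)
    {t : Subgroup.centralizer ({D.h} : Set G)} {g : G} (htg : (t : G) = g * D.h * g⁻¹) (htne : (t : G) ≠ D.h)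
    (T : Subgroup PGL(2, F)) (hcomm : ∀ x ∈ T, ∀ y ∈ T, x * y = y * x)
    (hout : ∀ x ∈ D.φ.range, x ∉ T → x * x = 1)
    (hprod : ∀ x ∈ D.φ.range, ∀ y ∈ D.φ.range, x ∉ T → y ∉ T → x * y ∈ T) : False := by
  obtain ⟨a, ha⟩ : ∃ a, a = D.φ D.u := ⟨_, rfl⟩
  obtain ⟨b, hb⟩ : ∃ b, b = D.φ D.v := ⟨_, rfl⟩
  have haR : a ∈ D.φ.range := ha ▸ ⟨_, rfl⟩
  have hbR : b ∈ D.φ.range := hb ▸ ⟨_, rfl⟩
  have ha2 : a * a = 1 := ha ▸ D.φ_sq D.u_sq
  have hb2 : b * b = 1 := hb ▸ D.φ_sq D.v_sq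
  have ha1 : a ≠ 1 := ha ▸ D.φ_ne_one D.u_sq
  have hb1 : b ≠ 1 := hb ▸ D.φ_ne_one D.v_sq
  have hne : a ≠ b := ha ▸ hb ▸ D.φ_ne
  have hcab : a * b = b * a := ha ▸ hb ▸ D.φ_comm
  have hτa : τ * a * τ⁻¹ = b := by rw [ha, hb]; exact hab
  -- an element of the four-group in the torus is central
  have hcent : ∀ j ∈ D.φ.range, j * j = 1 → j ∈ T → ∀ x ∈ D.φ.range, x * j = j * x := by
    intro j hjR hj2 hjT x hx
    by_cases hxT : x ∈ T
    · exact hcomm x hxT j hjT
    have h1 : x * j ∉ T := fun h => hxT (by simpa using T.mul_mem h (T.inv_mem hjT))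
    have h2 := hout _ (mul_mem hx hjR) h1
    have h3' := hout x hx hxT
    calc x * j = (x * j)⁻¹ := eq_inv_of_mul_eq_one_left h2
      _ = j⁻¹ * x⁻¹ := _root_.mul_inv_rev x j
      _ = j * x := by rw [inv_eq_of_mul_eq_one_right hj2, inv_eq_of_mul_eq_one_right h3']
  have hinvR : ∀ x ∈ D.φ.range, τ⁻¹ * x * τ ∈ D.φ.range := fun x hx => by
    have e : τ⁻¹ = τ * τ := inv_eq_of_mul_eq_one_right (by rw [← mul_assoc]; exact h3)
    have := hτ _ (hτ x hx)
    rw [show τ * (τ * x * τ⁻¹) * τ⁻¹ = (τ * τ) * x * (τ * τ)⁻¹ by group, ← e, inv_inv] at this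
    exact this
  let Cen : PGL(2, F) → Prop := fun j => ∀ x ∈ D.φ.range, x * j = j * x
  have up : ∀ j, Cen j → Cen (τ * j * τ⁻¹) := fun j hj x hx => by
    have := congrArg (fun z => τ * z * τ⁻¹) (hj _ (hinvR x hx))
    simpa [mul_assoc] using this
  have down : ∀ j, Cen j → Cen (τ⁻¹ * j * τ) := fun j hj x hx => by
    have := congrArg (fun z => τ⁻¹ * z * τ) (hj _ (hτ x hx))
    simpa [mul_assoc] using this
  have hab' : Cen a ∧ Cen b := by
    by_cases haT : a ∈ T
    · have h := hcent a haR ha2 haT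
      exact ⟨h, hτa ▸ up a h⟩
    by_cases hbT : b ∈ T
    · have h := hcent b hbR hb2 hbT
      refine ⟨?_, h⟩
      have := down b h
      rwa [← hτa, show τ⁻¹ * (τ * a * τ⁻¹) * τ = a by group] at this
    have hj : Cen (a * b) := hcent _ (mul_mem haR hbR) (by
      rw [mul_assoc, ← mul_assoc b, ← hcab, mul_assoc a, hb2, mul_one, ha2]) (hprod a haR b hbR haT hbT)
    obtain ⟨d, hd⟩ : ∃ d, d = τ * b * τ⁻¹ := ⟨_, rfl⟩
    have hk : Cen (b * d) := by
      have := up _ hj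
      rwa [show τ * (a * b) * τ⁻¹ = (τ * a * τ⁻¹) * (τ * b * τ⁻¹) by group, hτa, ← hd] at this
    have hbdR : b * d ∈ D.φ.range := mul_mem hbR (hd ▸ hτ b hbR)
    have hd_ne : d ≠ 1 := fun e => hb1 (conj_eq_one_iff.1 (hd ▸ e))
    rcases D.four.1 _ hbdR (by rw [← ha]; exact (hk a haR).symm) (by rw [← hb]; exact (hk b hbR).symm)
      with e | e | e | e
    · -- `τ` fixes `b`
      exfalso
      have e' : d = b := by rw [eq_inv_of_mul_eq_one_right e, inv_eq_of_mul_eq_one_right hb2]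
      apply hne
      have : τ⁻¹ * b * τ = b := by
        conv_lhs => rw [← e', hd]
        group
      conv_lhs => rw [show a = τ⁻¹ * (τ * a * τ⁻¹) * τ by group, hτa, this]
    · rw [← ha] at e
      have hca : Cen a := e ▸ hk
      exact ⟨hca, hτa ▸ up a hca⟩
    · exfalso
      rw [← hb] at e
      exact hd_ne (mul_left_cancel (e.trans (mul_one b).symm))
    · exfalso
      rw [← ha, ← hb, hcab] at e
      have e' : d = a := mul_left_cancel e
      apply hne
      -- then `τ` squared fixes `a`, so `τ` does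
      have h4 : τ * τ * a * (τ * τ)⁻¹ = a := by
        rw [show τ * τ * a * (τ * τ)⁻¹ = τ * (τ * a * τ⁻¹) * τ⁻¹ by group, hτa, ← hd, e']
      rw [← hτa]
      have h5 : τ⁻¹ = τ * τ := inv_eq_of_mul_eq_one_right (by rw [← mul_assoc]; exact h3)
      have : τ⁻¹ * a * τ = a := by
        rw [← h5, inv_inv] at h4; exact h4
      calc a = τ * (τ⁻¹ * a * τ) * τ⁻¹ := by group
        _ = τ * a * τ⁻¹ := by rw [this]
  obtain ⟨hca, hcb⟩ := hab'
  have ht2 : (t : G) * t = 1 := by rw [htg, conj_mul, D.h_sq]; group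
  have ht1 : (t : G) ≠ 1 := fun e => D.h_ne (conj_eq_one_iff.1 (htg ▸ e))
  have hno : ∀ y : Subgroup.centralizer ({D.h} : Set G), (y : G) * y = D.h → D.φ t ≠ D.φ y := fun y hy e =>
    D.not_sq_h _ ht2 (D.sq_of_eq e hy)
  rcases D.four.1 (D.φ t) ⟨t, rfl⟩ (by rw [← ha]; exact hca _ ⟨t, rfl⟩) (by rw [← hb]; exact hcb _ ⟨t, rfl⟩)
    with e | e | e | e
  · rcases D.ker t e with h | h
    · exact ht1 (congrArg Subtype.val h)
    · exact htne h
  · exact hno _ D.u_sq e
  · exact hno _ D.v_sq e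
  · exact hno _ D.uv_sq (by rw [e, map_mul])

/-- The twist permutes the generators of the quaternion group. -/
theorem twist_plane {h1 : twG hw ∈ Subgroup.centralizer {(hG : GL (Fin 3) F)}}
    {h2 : q1G hw ∈ Subgroup.centralizer {(hG : GL (Fin 3) F)}}
    {h3 : q2G hw ∈ Subgroup.centralizer {(hG : GL (Fin 3) F)}} :
    ProjGenLinGroup.mk (planeH ⟨twG hw, h1⟩) * ProjGenLinGroup.mk (planeH ⟨q1G hw, h2⟩) *
      (ProjGenLinGroup.mk (planeH ⟨twG hw, h1⟩))⁻¹ = ProjGenLinGroup.mk (planeH ⟨q2G hw, h3⟩) := by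
  rw [← map_inv, ← map_inv, ← map_mul, ← map_mul, ← map_mul, ← map_mul]
  rfl

/-- The core statement for `SU₃(5)`. -/
theorem le_normalizer_five {q : ℕ} (hF : Fintype.card F = q ^ 2) (hq : q = 5) (hc : CharP F 5) (hM : Over hw M)
    (hMU : M ≤ Cfsg.GU 3 F q) (hT : NoTv M) (htw : ∀ g ∈ M, twG hw * g * (twG hw)⁻¹ ∈ M) :
    M ≤ Subgroup.normalizer (heis hw : Set (GL (Fin 3) F)) := by
  classical
  by_contra hn
  obtain ⟨D, h1C, h2C, hr, hu, hv⟩ := hM.shape_of_noTv hT (p := 5) (by norm_num) hc hn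
  have htC : twG hw ∈ Subgroup.centralizer {(hG : GL (Fin 3) F)} :=
    Subgroup.mem_centralizer_singleton_iff.2 (hG_commute_twG (hw := hw)).eq.symm
  have hdvd : Nat.card (M.map (proj (F := F))) ∣ 2268000 := by
    refine (Subgroup.card_map_dvd M proj).trans ((Subgroup.card_dvd_of_le hMU).trans (dvd_of_eq ?_))
    rw [CfsgLib.Classical.card_gu hF, hq]
    decide
  obtain ⟨t, g, htg, htne, hcase⟩ := D.exists_other
  cases hcase with
  | octa e ha hb hc' =>
    rcases D.octa_cases htg e ha hb hc' with ⟨K, _, _, hK, ⟨f⟩⟩ | ⟨⟨f⟩⟩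
    · rw [Nat.card_congr f.toEquiv, CfsgLib.Recog.PlaneThirteen.card_psl_three hK] at hdvd
      norm_num at hdvd
    · rw [Nat.card_congr f.toEquiv, CfsgLib.Golay.card_sporM11] at hdvd
      norm_num at hdvd
  | pair T hcyc hcomm hone hout hprod hct =>
    refine pair_false D (τ := ProjGenLinGroup.mk (planeH ⟨twG hw, htC⟩)) ?_ ?_ ?_ htg htne T hcomm hout hprod
    · rw [← map_mul, ← map_mul, ← map_mul, ← map_mul,
        show (⟨twG hw, htC⟩ * ⟨twG hw, htC⟩ * ⟨twG hw, htC⟩ :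
          Subgroup.centralizer {(hG : GL (Fin 3) F)}) = 1 from Subtype.ext (Units.ext (by
          have := hw.pow_three
          show (twG hw : Matrix (Fin 3) (Fin 3) F) * twG hw * twG hw = 1
          rw [coe_twG]
          ext i j; fin_cases i <;> fin_cases j <;>
            simp [Matrix.mul_apply, Fin.sum_univ_three] <;> linear_combination this)), map_one, map_one]
    · rw [hu, hv]; exact twist_plane
    · intro x hx
      rw [hr] at hx ⊢
      obtain ⟨⟨y, hyM, hyC⟩, rfl⟩ := hx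
      refine ⟨⟨twG hw * y * (twG hw)⁻¹, htw y hyM, (Subgroup.centralizer _).mul_mem ((Subgroup.centralizer _).mul_mem htC hyC) ((Subgroup.centralizer _).inv_mem htC)⟩, ?_⟩
      show ProjGenLinGroup.mk (planeH ((⟨twG hw, htC⟩ : Subgroup.centralizer {(hG : GL (Fin 3) F)}) *
        ⟨y, hyC⟩ * ⟨twG hw, htC⟩⁻¹)) = _
      rw [map_mul, map_mul, map_mul, map_mul, map_inv, map_inv]
      rfl

end CfsgLib.MaxSub.SuNine
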