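import Cfsg.Agent.Lib.MaxSub.SuNine.Setup
import Cfsg.Agent.Lib.MaxSub.SlNine.Main

/-!
The normaliser of the symplectic type group is maximal in `SU₉(p)` in coordinates.
-/

set_option autoImplicit false
set_option linter.unusedSectionVars false

namespace CfsgLib.MaxSub.SuNine

open Matrix CfsgLib.MaxSub CfsgLib.MaxSub.SlNine Cfsg.Geo
open scoped MatrixGroups

variable {F : Type*} [Field F] [Fintype F] {q : ℕ} {hF : Fintype.card F = q ^ 2} {w : F}

/-- maximality, given that overgroups in the setting consist of normalising elements -/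
theorem maximal_of_all_nm (hq : q.Prime) (h1 : q % 3 = 2) (h : Root w)
    (hall : ∀ M : Subgroup (GL I9 F), M ≤ G9 hF → Setup w M (GUZ hF) (SUZ hF) → ∀ g ∈ M, Nm w (g : Matrix I9 I9 F)) :
    IsMaximalIn (G9 hF) (subgroupNormalizer (R9 h) ⊓ G9 hF) := by
  have hσ := frob_root hF h1 h
  refine ⟨lt_of_le_of_ne inf_le_right fun e => ?_, fun M hle hMG => ?_⟩
  · obtain ⟨g, hg, hgn⟩ := exists_not_nm (hF := hF) h hσ
    exact hgn ((normalizer_iff9 h).1 (e.ge hg).1)
  · by_cases hM : G9 hF ≤ M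
    · exact Or.inr (le_antisymm hMG hM)
    · have hS := setup_su h hσ hq h1 (fun g hg hn => hle ⟨(normalizer_iff9 h).2 hn, hg⟩) hMG hM
      exact Or.inl (le_antisymm (fun g hg => ⟨(normalizer_iff9 h).2 (hall M hMG hS g hg), hMG hg⟩) hle)

/-- odd characteristic -/
theorem maximal_coord_odd (hq : q.Prime) (h1 : q % 3 = 2) (h2 : (2 : F) ≠ 0) (h : Root w) :
    IsMaximalIn (G9 hF) (subgroupNormalizer (R9 h) ⊓ G9 hF) :=
  maximal_of_all_nm hq h1 h fun _ hMG hS _ hg => hS.all_nm h2 (hMG.trans inf_le_right) hg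

end CfsgLib.MaxSub.SuNine
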