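import Cfsg.Agent.Lib.MaxSub.SuNine.Uni

/-!
Over the field with four elements the whole unitary group of degree three normalises the group of order `27`.
-/

set_option autoImplicit false
set_option linter.unusedSectionVars false

namespace CfsgLib.MaxSub.SuNine

open Matrix CfsgLib.MaxSub.SlNine
open scoped MatrixGroups

variable {F : Type*} [Field F] {σ : F →+* F} {w : F}

/-- a function on the line with values cube roots of unity is a quadratic phase -/
theorem phase_form : ∀ f : Z → Z, ∃ a b c : Z, ∀ y, f y = a + b * y + c * (y * y) := by decide +kernel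

/-- a permutation of the line is affine -/
theorem perm_affine : ∀ π : Equiv.Perm Z, ∃ s c : Z, (s = 1 ∨ s = -1) ∧ ∀ x, π x = s * x + c := by decide +kernel

variable (h : Root w)
include h

theorem nm3_diagonal {d : Z → F} (hd : ∀ y, d y ^ 3 = 1) : Nm3 w (diagonal d) := by
  choose f hf using fun y => h.eq_ch (hd y)
  obtain ⟨a, b, c, e⟩ := phase_form f
  have ed : diagonal d = ch w a • (diagonal (fun y : Z => ch w (b * y)) * diagonal fun y : Z => ch w (c * (y * y))) := by
    rw [diagonal_mul_diagonal, ← diagonal_smul]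
    refine congrArg diagonal (funext fun y => ?_)
    rw [hf, e, h.ch_add, h.ch_add, Pi.smul_apply, smul_eq_mul, mul_assoc]
  have eb : diagonal (fun y : Z => ch w (b * y)) = v3 w (b, 0) := by
    rw [v3, w3, show Equiv.addRight (0 : Z) = 1 from Equiv.ext fun x => add_zero x, pm_one, mul_one]
  rw [ed, eb]
  refine nm3_of_sends fun u => ?_
  refine ⟨_, (Sends.mul (sends_w3 h (b, 0) _) (sends_phase h c u)).smul (ch w a)⟩

/-- the sign change of the line -/
theorem sends_neg (u : Z × Z) : Sends w (pm (Equiv.neg Z) : Matrix Z Z F) u (-u) := by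
  refine ⟨1, Matrix.ext fun i j => ?_⟩
  rw [one_smul, pm_mul_apply, mul_pm_apply, v3, v3, w3_apply, w3_apply]
  simp only [Equiv.neg_symm, Equiv.neg_apply, Prod.fst_neg, Prod.snd_neg, mul_neg, neg_mul]
  refine if_congr ⟨fun e => ?_, fun e => ?_⟩ rfl rfl
  · linear_combination -e
  · linear_combination -e

omit h in
theorem nm3_mul {X Y : Matrix Z Z F} (hX : Nm3 w X) (hY : Nm3 w Y) : Nm3 w (X * Y) := fun a b => by
  obtain ⟨c, a', b', e⟩ := hY a b
  obtain ⟨d, a'', b'', e'⟩ := hX a' b'
  exact ⟨c * d, a'', b'', by rw [mul_assoc, e, mul_smul_comm, ← mul_assoc, e', smul_mul_assoc, smul_smul, mul_assoc]⟩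

theorem nm3_perm (π : Equiv.Perm Z) : Nm3 w (pm π : Matrix Z Z F) := by
  obtain ⟨s, c, hs, hπ⟩ := perm_affine π
  have ht : (pm (Equiv.addRight c) : Matrix Z Z F) = v3 w (0, c) := by
    rw [v3, w3, show (fun y : Z => ch w (0 * y)) = fun _ => 1 from funext fun y => by rw [zero_mul, ch_zero],
      diagonal_one, one_mul]
  rcases hs with rfl | rfl
  · rw [show π = Equiv.addRight c from Equiv.ext fun x => by rw [hπ, one_mul]; rfl, ht]
    exact nm3_of_sends fun u => ⟨u, sends_w3 h _ _⟩
  · rw [show π = Equiv.addRight c * Equiv.neg Z from Equiv.ext fun x => by rw [hπ, neg_one_mul]; rfl, ← pm_mul_pm, ht]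
    exact nm3_of_sends fun u => ⟨_, (sends_w3 h _ _).mul (sends_neg h u)⟩

omit h in
/-- a finite sum of ones and zeros in characteristic two -/
theorem sum_three {a b c : F} (h2 : (2 : F) = 0) (ha : a = 0 ∨ a = 1) (hb : b = 0 ∨ b = 1) (hc : c = 0 ∨ c = 1)
    (e : a + b + c = 1) : (a = 1 ∧ b = 0 ∧ c = 0) ∨ (a = 0 ∧ b = 1 ∧ c = 0) ∨ (a = 0 ∧ b = 0 ∧ c = 1) ∨
      (a = 1 ∧ b = 1 ∧ c = 1) := by
  have h0 : (0 : F) ≠ 1 := zero_ne_one
  rcases ha with rfl | rfl <;> rcases hb with rfl | rfl <;> rcases hc with rfl | rfl <;>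
    first
      | exact absurd (by linear_combination e) h0
      | exact absurd (by linear_combination e - h2) h0
      | simp

variable (hσ : σ w = w ^ 2) (h4 : ∀ x : F, x ≠ 0 → x ^ 3 = 1) (h2 : (2 : F) = 0)
include hσ h4 h2

omit hσ h2 in
/-- monomial unitary matrices normalise -/
theorem nm3_monomial {X : Matrix Z Z F} (π : Equiv.Perm Z) (hπ : ∀ i j, X i j ≠ 0 ↔ i = π j) : Nm3 w X := by
  have e : X = diagonal (fun i => X i (π.symm i)) * pm π := by
    ext i j
    rw [diagonal_mul, pm_apply]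
    split_ifs with hij
    · subst hij; simp
    · rw [mul_zero]; by_contra h0; exact hij ((hπ i j).1 h0)
  rw [e]
  exact nm3_mul (nm3_diagonal h fun i => h4 _ ((hπ i (π.symm i)).2 (π.apply_symm_apply i).symm)) (nm3_perm h π)

/-- every unitary matrix of degree three normalises -/
theorem nm3_of_umat {X : Matrix Z Z F} (hX : UMat σ X) : Nm3 w X := by
  classical
  have hσ4 : ∀ x : F, x ≠ 0 → x * σ x = 1 := fun x hx => by
    obtain ⟨a, rfl⟩ := h.eq_ch (h4 x hx)
    exact ch_norm h hσ a
  have h01 : ∀ x : F, (x * σ x = 0 ∧ x = 0) ∨ (x * σ x = 1 ∧ x ≠ 0) := fun x => by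
    by_cases hx : x = 0
    · exact Or.inl ⟨by rw [hx, zero_mul], hx⟩
    · exact Or.inr ⟨hσ4 x hx, hx⟩
  -- weights of rows and columns
  have hcol : ∀ {Y : Matrix Z Z F}, UMat σ Y → ∀ j, (∀ i, Y i j ≠ 0) ∨ ∃ i, ∀ k, Y k j ≠ 0 ↔ k = i := by
    intro Y hY j
    have e := congrFun (congrFun hY j) j
    rw [Matrix.mul_apply, Matrix.one_apply_eq, show ∀ f : Z → F, ∑ k, f k = f 0 + f 1 + f 2 from fun f => Fin.sum_univ_three f] at e
    simp only [transpose_apply, map_apply] at e
    have hz : ∀ k : Z, Y k j * σ (Y k j) = 0 ∨ Y k j * σ (Y k j) = 1 := fun k => by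
      rcases h01 (Y k j) with h | h <;> simp [h.1]
    have hiff : ∀ k : Z, Y k j * σ (Y k j) = 1 → Y k j ≠ 0 := fun k e h0 => by simp [h0] at e
    have hiff' : ∀ k : Z, Y k j * σ (Y k j) = 0 → Y k j = 0 := fun k e => by
      by_contra h0; rw [hσ4 _ h0] at e; exact one_ne_zero e
    have hc : ∀ k : Z, k = 0 ∨ k = 1 ∨ k = 2 := by decide
    rcases sum_three h2 (hz 0) (hz 1) (hz 2) e with ⟨a, b, c⟩ | ⟨a, b, c⟩ | ⟨a, b, c⟩ | ⟨a, b, c⟩
    · refine Or.inr ⟨0, fun k => ?_⟩
      rcases hc k with rfl | rfl | rfl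
      · simp [hiff 0 a]
      · simpa using hiff' 1 b
      · simpa +decide using hiff' 2 c
    · refine Or.inr ⟨1, fun k => ?_⟩
      rcases hc k with rfl | rfl | rfl
      · simpa using hiff' 0 a
      · simp [hiff 1 b]
      · simpa +decide using hiff' 2 c
    · refine Or.inr ⟨2, fun k => ?_⟩
      rcases hc k with rfl | rfl | rfl
      · simpa +decide using hiff' 0 a
      · simpa +decide using hiff' 1 b
      · simp [hiff 2 c]
    · exact Or.inl fun k => by
        rcases hc k with rfl | rfl | rfl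
        exacts [hiff 0 a, hiff 1 b, hiff 2 c]
  -- one column of weight one makes the matrix monomial
  have hmono : ∀ {Y : Matrix Z Z F}, UMat σ Y → (∃ j i, ∀ k, Y k j ≠ 0 ↔ k = i) → Nm3 w Y := by
    rintro Y hY ⟨j, i, hi⟩
    have hrow : ∀ l, l ≠ j → Y i l = 0 := fun l hl => by
      have e := congrFun (congrFun hY l) j
      rw [Matrix.mul_apply, Finset.sum_eq_single i, Matrix.one_apply_ne hl] at e
      · exact (mul_eq_zero.1 e).resolve_right
          ((map_ne_zero σ).2 ((hi i).2 rfl))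
      · intro k _ hk
        rw [map_apply, Classical.not_not.1 (fun hh => hk ((hi k).1 hh)), map_zero, mul_zero]
      · simp
    have hone : ∀ l, ∃ i, ∀ k, Y k l ≠ 0 ↔ k = i := fun l => by
      rcases eq_or_ne l j with rfl | hl
      · exact ⟨i, hi⟩
      · exact (hcol hY l).resolve_left fun hall => hall i (hrow l hl)
    choose f hf using hone
    have hinj : Function.Injective f := fun l l' e => by
      by_contra hne
      have e1 := congrFun (congrFun hY l) l'
      rw [Matrix.mul_apply, Finset.sum_eq_single (f l), Matrix.one_apply_ne hne] at e1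
      · rw [transpose_apply, map_apply] at e1
        exact mul_ne_zero ((hf l _).2 rfl) ((map_ne_zero σ).2 ((hf l' _).2 e)) e1
      · intro k _ hk
        rw [transpose_apply, Classical.not_not.1 (fun hh => hk ((hf l k).1 hh)), zero_mul]
      · simp
    exact nm3_monomial h h4 (Equiv.ofBijective f hinj.bijective_of_finite) fun a b => hf b a
  rcases hcol hX 0 with hall | hone
  swap
  · exact hmono hX ⟨0, hone⟩
  -- move the full column to a coordinate vector
  obtain ⟨D, hD⟩ : ∃ D, D = diagonal fun k : Z => (X k 0)⁻¹ := ⟨_, rfl⟩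
  have hDu : UMat σ D := hD ▸ umat_diagonal fun k => hσ4 _ (inv_ne_zero (hall k))
  have hDn : Nm3 w D := hD ▸ nm3_diagonal h fun k => h4 _ (inv_ne_zero (hall k))
  obtain ⟨P, hP⟩ : ∃ P, P = phi w * D * X := ⟨_, rfl⟩
  have hY : Nm3 w P := by
    refine hmono (hP ▸ ((umat_phi h hσ).mul hDu).mul hX) ⟨0, 0, fun k => ?_⟩
    have e : P k 0 = (w - w ^ 2)⁻¹ * ∑ i : Z, ch w (k * i) := by
      rw [hP, mul_assoc, Matrix.mul_apply, Finset.mul_sum]
      refine Finset.sum_congr rfl fun i _ => ?_
      rw [phi, Matrix.smul_apply, Matrix.of_apply, hD, diagonal_mul, inv_mul_cancel₀ (hall i), mul_one, smul_eq_mul]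
    rw [e, show (Finset.univ : Finset Z) = {0, 1, 2} by decide, Finset.sum_insert (by decide),
      Finset.sum_pair (by decide)]
    have hd : (w - w ^ 2)⁻¹ ≠ 0 := inv_ne_zero fun e => h.ne_one (mul_left_cancel₀ h.ne_zero (by
      linear_combination -e))
    have hc : ∀ k : Z, k = 0 ∨ k = 1 ∨ k = 2 := by decide
    rcases hc k with rfl | rfl | rfl
    · simp only [zero_mul, ch_zero]
      refine iff_of_true (mul_ne_zero hd ?_) (by trivial)
      rw [show (1 : F) + (1 + 1) = 3 by norm_num]
      exact h.three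
    · refine iff_of_false (fun hh => hh ?_) (by decide)
      rw [show ch w ((1 : Z) * 0) + (ch w ((1 : Z) * 1) + ch w ((1 : Z) * 2)) = 0 from by
        show w ^ 0 + (w ^ 1 + w ^ 2) = 0
        linear_combination h.eq, mul_zero]
    · refine iff_of_false (fun hh => hh ?_) (by decide)
      rw [show ch w ((2 : Z) * 0) + (ch w ((2 : Z) * 1) + ch w ((2 : Z) * 2)) = 0 from by
        show w ^ 0 + (w ^ 2 + w ^ 1) = 0
        linear_combination h.eq, mul_zero]
  have eX : X = diagonal (fun k : Z => X k 0) * (phiInv w * P) := by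
    rw [hP, mul_assoc (phi w), ← mul_assoc (phiInv w), phiInv_mul_phi h, one_mul, hD, ← mul_assoc,
      diagonal_mul_diagonal, show (fun k : Z => X k 0 * (X k 0)⁻¹) = fun _ => 1 from
        funext fun k => mul_inv_cancel₀ (hall k), diagonal_one, one_mul]
  rw [eX]
  refine nm3_mul (nm3_diagonal h fun k => h4 _ (hall k)) (nm3_mul ?_ hY)
  refine nm3_of_sends fun u => ⟨(-u.2, u.1), ?_⟩
  obtain ⟨c, hc⟩ := sends_phi h (-u.2, u.1)
  simp only [neg_neg] at hc
  have hc' := congrArg (fun A : Matrix Z Z F => phiInv w * A * phiInv w) hc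
  have hc0 : c ≠ 0 := fun e => by
    rw [e, zero_smul] at hc
    have e0 := congrArg (fun A : Matrix Z Z F => phiInv w * A) hc
    simp only [← mul_assoc, phiInv_mul_phi h, one_mul, mul_zero] at e0
    exact det_w3_ne h (-u.2) u.1 (by rw [show w3 w (-u.2) u.1 = 0 from e0, det_zero])
  refine ⟨c⁻¹, ?_⟩
  simp only [mul_smul_comm, smul_mul_assoc] at hc'
  rw [← mul_assoc, phiInv_mul_phi h, one_mul, mul_assoc (phiInv w), mul_assoc _ (phi w), phi_mul_phiInv h,
    mul_one] at hc'
  rw [hc', smul_smul, inv_mul_cancel₀ hc0, one_smul]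

end CfsgLib.MaxSub.SuNine
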