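import Cfsg.Agent.Lib.MaxSub.SuNine.Dich
import Cfsg.Agent.Lib.MaxSub.SuNine.Two
import Cfsg.Agent.Lib.MaxSub.UFrameCoord
import Cfsg.Agent.Lib.MaxSub.Rational

/-!
The setting for `SU₉(q)`, `q` a prime congruent to `2` modulo three.
-/

set_option autoImplicit false
set_option linter.unusedSectionVars false

namespace CfsgLib.MaxSub.SuNine

open Matrix CfsgLib.MaxSub CfsgLib.MaxSub.SlNine Cfsg.Geo
open scoped MatrixGroups

variable {F : Type*} [Field F] [Fintype F] {q : ℕ} (hF : Fintype.card F = q ^ 2)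

/-- the special unitary group on the plane -/
noncomputable abbrev G9 : Subgroup (GL I9 F) := uni (CfsgLib.Classical.qFrob hF) I9 ⊓ specialLinear I9 F

variable {w : F}

theorem frob_root (h1 : q % 3 = 2) (h : Root w) : CfsgLib.Classical.qFrob hF w = w ^ 2 := by
  rw [CfsgLib.Classical.qFrob_apply, pow_eq_pow_mod q h.cube, h1]

variable {hF}

theorem two_eq_zero (hF : Fintype.card F = q ^ 2) (h : q = 2) : (2 : F) = 0 := by
  have e : ((Fintype.card F : ℕ) : F) = 0 := Nat.cast_card_eq_zero F
  rw [hF, h] at e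
  have : (2 : F) * 2 = 0 := by linear_combination (norm := norm_num) e
  exact (mul_self_eq_zero).1 this

theorem cube_eq_one (hF : Fintype.card F = q ^ 2) (h : q = 2) (x : F) (hx : x ≠ 0) : x ^ 3 = 1 := by
  have := FiniteField.pow_card_sub_one_eq_one x hx
  rwa [hF, h] at this

omit [Fintype F] in
theorem mem_G9_iff {σ : F →+* F} {g : GL I9 F} :
    g ∈ uni σ I9 ⊓ specialLinear I9 F ↔ UMat σ (g : Matrix I9 I9 F) ∧ (g : Matrix I9 I9 F).det = 1 :=
  and_congr Iff.rfl mem_sl3

omit [Fintype F] in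
/-- an invertible matrix of a group of unitary ones -/
theorem mem_uni_of_umat {α : Type} [Fintype α] [DecidableEq α] {σ : F →+* F} {X : Matrix α α F} (hX : UMat σ X) :
    Mem (uni σ α) X :=
  ⟨⟨X, (X.map σ)ᵀ, by rw [← transpose_one, ← hX.right, transpose_mul, transpose_transpose],
    by rw [← transpose_one, ← (show Xᵀ * X.map σ = 1 from hX), transpose_mul, transpose_transpose]⟩,
    hX, rfl⟩

omit [Fintype F] in
/-- the odd part of a unitary matrix commuting with the involution -/
theorem umat_oddPart {σ : F →+* F} {X : Matrix I9 I9 F} (hX : UMat σ X) (hz : X * zed F = zed F * X) :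
    UMat σ (oddPart X) := by
  have hzT : (zed F)ᵀ = zed F := by
    ext i j
    rw [transpose_apply, zed, Matrix.neg_apply, Matrix.neg_apply, pm_apply, pm_apply]
    have : ∀ i j : I9, j = negFst i ↔ i = negFst j := by decide +kernel
    rw [if_congr (this i j) rfl rfl]
  have hzm : (zed F).map σ = zed F := by
    ext i j
    rw [map_apply, zed, Matrix.neg_apply, map_neg, pm_apply, apply_ite σ, map_one, map_zero]
  have h1 : Xᵀ * zed F = zed F * Xᵀ := by
    have := congrArg Matrix.transpose hz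
    rw [transpose_mul, transpose_mul, hzT] at this
    exact this.symm
  have h2 : X.map σ * zed F = zed F * X.map σ := by
    rw [← hzm, ← Matrix.map_mul, hz, Matrix.map_mul]
  have e1 : (oddPart X)ᵀ = oddPart Xᵀ := by
    ext y y'
    simp only [oddPart, transpose_apply, Matrix.of_apply]
    rw [oddPart_comm_zed hz 2 y' 1 y, show -(2 : Z) = 1 from rfl, show -(1 : Z) = 2 from rfl]
  have e2 : (oddPart X).map σ = oddPart (X.map σ) := by
    ext y y'
    simp only [oddPart, map_apply, Matrix.of_apply, map_sub]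
  rw [UMat, e1, e2, ← oddPart_mul h2, show Xᵀ * X.map σ = 1 from hX, oddPart_one]

/-- the blocks counted by `Fin 3` -/
def fz : Fin 3 ≃ Z := (ZMod.finEquiv 3).toEquiv

theorem map_zero_fz : fz 0 = 0 := map_zero (ZMod.finEquiv 3)

/-- the subspace supported on one block -/
def blockSub (e : Fin 9 ≃ I9) (x : Z) : Submodule F (Fin 9 → F) where
  carrier := {v | ∀ j, (e j).1 ≠ x → v j = 0}
  add_mem' {u v} hu hv j hj := by simp [hu j hj, hv j hj]
  zero_mem' j _ := rfl
  smul_mem' c v hv j hj := by simp [hv j hj]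

theorem blockSub_decomp (hq : 0 < q) (e : Fin 9 ≃ I9) :
    IsNondegenerateMDecomposition (Cfsg.hermForm 9 F q) 3 (fun i : Fin 3 => blockSub (F := F) e (fz i)) := by
  classical
  refine ⟨⟨by norm_num, by norm_num, fun i => ?_, ?_, ?_⟩, fun i v hv hv0 => ?_, fun i j hij u hu v hv => ?_⟩
  · let L : (blockSub (F := F) e (fz i)) ≃ₗ[F] (Z → F) :=
      { toFun := fun v y => (v : Fin 9 → F) (e.symm ((fz i), y))
        map_add' := fun u v => rfl
        map_smul' := fun c v => rfl
        invFun := fun f => ⟨fun j => if (e j).1 = (fz i) then f (e j).2 else 0, fun j hj => if_neg hj⟩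
        left_inv := fun v => by
          refine Subtype.ext (funext fun j => ?_)
          show (if (e j).1 = (fz i) then (v : Fin 9 → F) (e.symm ((fz i), (e j).2)) else 0) = (v : Fin 9 → F) j
          split_ifs with hj
          · exact congrArg (v : Fin 9 → F) ((congrArg e.symm (show (fz i, (e j).2) = e j from Prod.ext hj.symm rfl)).trans (e.symm_apply_apply j))
          · exact (v.2 j hj).symm
        right_inv := fun f => funext fun y => by simp }
    rw [L.finrank_eq, Module.finrank_pi, ZMod.card]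
  · rw [iSupIndep_def]
    intro i
    rw [Submodule.disjoint_def]
    intro v hv hv'
    refine funext fun j => ?_
    by_cases hj : (e j).1 = (fz i)
    · have hle : (⨆ (k : Fin 3) (_ : k ≠ i), blockSub (F := F) e (fz k)) ≤ LinearMap.ker (LinearMap.proj j) := by
        refine iSup₂_le fun k hk u hu => ?_
        exact hu j fun e' => hk (fz.injective (e'.symm.trans hj))
      exact hle hv'
    · exact hv j hj
  · rw [eq_top_iff]
    intro v _
    have hv : v = ∑ i : Fin 3, (fun j => if (e j).1 = (fz i) then v j else 0) := by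
      funext j
      rw [Finset.sum_apply, Finset.sum_eq_single (fz.symm (e j).1)]
      · exact (if_pos (fz.apply_symm_apply _).symm).symm
      · exact fun k _ hk => if_neg fun e' => hk (by rw [e', Equiv.symm_apply_apply])
      · simp
    rw [hv]
    exact Submodule.sum_mem _ fun i _ => Submodule.mem_iSup_of_mem i fun j hj => if_neg hj
  · obtain ⟨j, hj⟩ := Function.ne_iff.1 hv0
    have hji : (e j).1 = (fz i) := by
      by_contra hne
      exact hj (hv j hne)
    have hs : (Pi.single j 1 : Fin 9 → F) ∈ blockSub e (fz i) := fun k hk => by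
      rw [Pi.single_apply, if_neg fun e' => hk (by rw [e', hji])]
    refine ⟨⟨_, hs, ?_⟩, ⟨_, hs, ?_⟩⟩
    · rw [Cfsg.hermForm, Finset.sum_eq_single j (fun k _ hk => by simp [hk]) (by simp)]
      simpa using pow_ne_zero q hj
    · rw [Cfsg.hermForm, Finset.sum_eq_single j (fun k _ hk => by simp [hk, zero_pow hq.ne']) (by simp)]
      simpa using hj
  · refine Finset.sum_eq_zero fun k _ => ?_
    by_cases hk : (e k).1 = (fz i)
    · rw [hv k (fun e' => hij (fz.injective (hk.symm.trans e'))), zero_pow hq.ne', mul_zero]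
    · rw [hu k hk, zero_mul]

theorem glReindex_mem_G9 (e : Fin 9 ≃ I9) {g : GL (Fin 9) F} :
    glReindex e g ∈ G9 hF ↔ g ∈ Cfsg.GU 9 F q ⊓ specialLinear (Fin 9) F := by
  have hv : (glReindex e g : Matrix I9 I9 F) = (g : Matrix (Fin 9) (Fin 9) F).submatrix e.symm e.symm := rfl
  rw [mem_G9_iff, Subgroup.mem_inf, CfsgLib.Classical.mem_gu_iff hF g, mem_sl3, hv, umat_reindex,
    det_submatrix_equiv_self]
  rfl

variable (h : Root w) (hσ : CfsgLib.Classical.qFrob hF w = w ^ 2)
include h hσ

/-- one Fourier block: an element which does not normalise -/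
theorem exists_not_nm : ∃ g ∈ G9 hF, ¬ Nm w (g : Matrix I9 I9 F) := by
  obtain ⟨g, hg, e⟩ := mem_uni_of_umat ((umat_bd (σ := CfsgLib.Classical.qFrob hF) (A := SlNine.single (phi w))).2 fun x => by
    rw [SlNine.single]; split_ifs
    exacts [umat_phi h hσ, UMat.one])
  refine ⟨g, mem_G9_iff.2 ⟨hg, ?_⟩, fun hn => ?_⟩
  · rw [e, bd_det, Finset.prod_eq_single (0 : Z)]
    · rw [SlNine.single, if_pos rfl, det_phi h]
    · intro x _ hx; rw [SlNine.single, if_neg hx, det_one]
    · simp
  obtain ⟨c, a, b, hc⟩ := hn (0, 0) (1, 0)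
  rw [e, w9, w9, ← mul_assoc] at hc
  have key : ∀ y' : Z, ((0, y') : I9) - b = (2, 0) := by
    intro y'
    have he := congrFun (congrFun hc (0, y')) (2, 0)
    rw [mul_pm_apply, mul_diagonal, Matrix.smul_apply, mul_assoc, diagonal_mul, pm_mul_apply] at he
    simp only [Equiv.coe_addRight, Equiv.addRight_symm_apply, ← sub_eq_add_neg,
      show ((2 : Z), (0 : Z)) + (1, 0) = (0, 0) from rfl, bd_apply] at he
    by_contra hne
    simp only [↓reduceIte, SlNine.single] at he
    have hl : phi w y' 0 * ch w (dot ((0, 0) : I9) (0, 0)) ≠ 0 := by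
      refine mul_ne_zero ?_ (h.ch_ne_zero _)
      rw [phi, Matrix.smul_apply, Matrix.of_apply, smul_eq_mul]
      exact mul_ne_zero (inv_ne_zero fun e => h.ne_one (mul_left_cancel₀ h.ne_zero (by linear_combination -e)))
        (h.ch_ne_zero _)
    refine hl (he.trans ?_)
    by_cases h1 : (((0, y') : I9) - b).1 = 2
    · rw [if_pos h1, if_neg (by rw [h1]; decide), Matrix.one_apply_ne fun e' => hne (Prod.ext h1 e'), mul_zero,
        smul_zero]
    · rw [if_neg h1, mul_zero, smul_zero]
  have := (key 0).trans (key 1).symm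
  rw [sub_left_inj, Prod.mk.injEq] at this
  exact absurd this.2 (by decide)

/-- an overgroup with all SlNine.single blocks is the whole group -/
theorem eq_top_of_single (hq : q.Prime) {M : Subgroup (GL I9 F)}
    (hN : ∀ g ∈ G9 hF, Nm w (g : Matrix I9 I9 F) → g ∈ M) (hM : M ≤ G9 hF)
    (hs : ∀ g ∈ SUZ hF, Mem M (bd (SlNine.single (g : Matrix Z Z F)))) : G9 hF ≤ M := by
  classical
  obtain ⟨σ, hσdef⟩ : ∃ σ, σ = CfsgLib.Classical.qFrob hF := ⟨_, rfl⟩
  have hmk : ∀ {X : Matrix I9 I9 F}, UMat σ X → X.det = 1 → Nm w X → Mem M X := fun {X} hu hd hX => by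
    obtain ⟨g, hg, e⟩ := mem_uni_of_umat hu
    subst hσdef
    exact ⟨g, hN g (mem_G9_iff.2 ⟨hg, e ▸ hd⟩) (e ▸ hX), e⟩
  subst hσdef
  have hz : Mem M (zed F) := hmk (umat_pm _).neg (by rw [zed, det_neg, det_pm, sign_negFst]; simp [pow_succ]) (nm_zed h)
  have hsw : Mem M (-pm swp) :=
    hmk (umat_pm _).neg (by rw [det_neg, det_pm, sign_swp]; simp [pow_succ]) (nm_neg_swp h)
  have htr : ∀ c : Z, Mem M (w9 w 0 (c, 0)) := fun c => hmk (umat_w9 h hσ _ _) (det_w9 h _ _) (nm_w9 h _ _)
  have hsh : ∀ (x : Z) (g : GL Z F), g ∈ SUZ hF →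
      Mem M (bd fun y => if y = x then (g : Matrix Z Z F) else 1) := by
    intro x g hg
    have e : w9 w 0 (x, 0) * w9 w 0 (-x, 0) = 1 := by
      rw [h.w9_mul]; simp [dot, ch_zero, show ((0 : Z), (0 : Z)) = (0 : I9) from rfl, w9_zero]
    have := (htr x).conj (hs g hg) e
    rw [w9_shift h, mul_assoc, e, mul_one] at this
    simpa [SlNine.single, sub_eq_zero] using this
  have hall : ∀ B : Z → GL Z F, (∀ x, B x ∈ SUZ hF) → Mem M (bd fun x => (B x : Matrix Z Z F)) := by
    intro B hB
    have := ((hsh 0 _ (hB 0)).mul (hsh 1 _ (hB 1))).mul (hsh 2 _ (hB 2))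
    rw [bd_mul, bd_mul] at this
    refine (congrArg (fun A => Mem M (bd A)) (funext fun x => ?_)).mp this
    have : ∀ x : Z, x = 0 ∨ x = 1 ∨ x = 2 := by decide
    rcases this x with rfl | rfl | rfl <;> simp +decide
  -- block diagonal elements
  have hbd : ∀ A, Mem (G9 hF) (bd A) → Mem M (bd A) := by
    rintro A ⟨g, hg, e⟩
    obtain ⟨hu, hd⟩ := mem_G9_iff.1 hg
    rw [e] at hu hd
    rw [bd_det] at hd
    have hA := umat_bd.1 hu
    have hnorm : ∀ x, (A x).det * CfsgLib.Classical.qFrob hF (A x).det = 1 := fun x => by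
      have e1 := congrArg Matrix.det (hA x)
      rwa [det_mul, det_transpose, det_one, ← RingHom.mapMatrix_apply, ← RingHom.map_det] at e1
    obtain ⟨lam, hlam⟩ : ∃ lam : Z → F, lam = fun x => (A x).det := ⟨_, rfl⟩
    have hl : ∀ x, lam x * CfsgLib.Classical.qFrob hF (lam x) = 1 := by rw [hlam]; exact hnorm
    have hl0 : ∀ x, lam x ≠ 0 := fun x e0 => zero_ne_one (α := F) (by rw [← hl x, e0, zero_mul])
    obtain ⟨dg, hdg⟩ : ∃ dg : F → Z → F, dg = fun t y => if y = 0 then t else 1 := ⟨_, rfl⟩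
    -- the first factor has blocks of determinant one
    have hB : ∀ x, Mem (SUZ hF) (A x * diagonal (dg (lam x)⁻¹)) := by
      intro x
      obtain ⟨b, hb, hbe⟩ := mem_uni_of_umat ((hA x).mul (umat_diagonal (d := dg (lam x)⁻¹) fun y => by
        rw [hdg]; beta_reduce
        split_ifs
        · rw [map_inv₀, ← mul_inv, hl, inv_one]
        · rw [map_one, mul_one]))
      refine ⟨b, ⟨hb, mem_sl3.2 ?_⟩, hbe⟩
      rw [hbe, det_mul, det_diagonal, Finset.prod_eq_single (0 : Z)]
      · rw [hdg]; simp only [if_pos]; rw [hlam]; exact mul_inv_cancel₀ (by simpa [hlam] using hl0 x)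
      · intro y _ hy; rw [hdg]; exact if_neg hy
      · simp
    choose B hBS hBe using hB
    obtain ⟨t, ht, hte⟩ := mem_uni_of_umat (umat_diagonal (d := lam) hl)
    have htS : t ∈ SUZ hF := ⟨ht, mem_sl3.2 (by rw [hte, det_diagonal, hlam]; exact hd)⟩
    have h2 := (hsw.mul (hs t htS)).mul hsw
    have := (hall B hBS).mul h2
    convert this using 1
    have e3 : -pm swp * bd (SlNine.single (t : Matrix Z Z F)) * -pm swp = bd fun x => diagonal (dg (lam x)) := by
      ext i j
      rw [neg_mul, neg_mul, mul_neg, neg_neg, mul_pm_apply, pm_mul_apply, bd_apply, bd_apply, SlNine.single, hte, hdg]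
      obtain ⟨i1, i2⟩ := i
      obtain ⟨j1, j2⟩ := j
      simp only [swp, Equiv.prodComm_apply, Equiv.prodComm_symm, Prod.swap_prod_mk]
      rcases eq_or_ne i2 j2 with rfl | hne
      · rcases eq_or_ne i2 0 with rfl | h0
        · rcases eq_or_ne i1 j1 with rfl | h1 <;> simp [*, diagonal_apply]
        · rcases eq_or_ne i1 j1 with rfl | h1 <;> simp [*, diagonal_apply, Matrix.one_apply]
      · simp [hne, diagonal_apply]
    rw [e3, bd_mul]
    refine congrArg bd (funext fun x => ?_)
    rw [hBe, mul_assoc, diagonal_mul_diagonal, hdg]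
    have : (fun y : Z => (if y = 0 then (lam x)⁻¹ else 1) * if y = 0 then lam x else 1) = fun _ => 1 :=
      funext fun y => by split_ifs <;> simp [hl0 x]
    rw [this, diagonal_one, mul_one]
  obtain ⟨e⟩ : Nonempty (Fin 9 ≃ I9) := ⟨(Fintype.equivFinOfCardEq (by simp [I9, Z])).symm⟩
  have hmax := CfsgLib.MaxSub.UFrame.isMaximalIn_decomposition_nine hF le_rfl (fun h => by omega)
    (blockSub_decomp hq.pos e)
  -- the stabiliser of the blocks lies in `M`
  have hstab : decompositionStabilizer (fun i : Fin 3 => blockSub (F := F) e (fz i)) ⊓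
      (Cfsg.GU 9 F q ⊓ specialLinear (Fin 9) F) ≤ M.comap (glReindex e).toMonoidHom := by
    rintro g ⟨⟨π, hπ⟩, hg⟩
    have hX := (glReindex_mem_G9 (hF := hF) e).2 hg
    have hsupp : ∀ p r : I9, (glReindex e g : Matrix I9 I9 F) p r ≠ 0 → p.1 = fz (π (fz.symm r.1)) := by
      intro p r hpr
      by_contra hne
      have hr : (Pi.single (e.symm r) 1 : Fin 9 → F) ∈ blockSub e (fz (fz.symm r.1)) := fun j hj => by
        rw [Pi.single_apply, if_neg fun e' => hj (by rw [e', Equiv.apply_symm_apply, Equiv.apply_symm_apply])]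
      have := (hπ (fz.symm r.1)).le (Submodule.mem_map_of_mem (f := Matrix.toLin' (g : Matrix (Fin 9) (Fin 9) F)) hr)
        (e.symm p) (by rw [Equiv.apply_symm_apply]; exact hne)
      rw [Matrix.toLin'_apply, Matrix.mulVec_single, MulOpposite.op_one, one_smul] at this
      exact hpr this
    obtain ⟨s, c, hs1, hsc⟩ := perm_affine (fz.symm.trans (π.trans fz))
    -- undo the permutation of the blocks
    obtain ⟨T, hT, κ, hκ⟩ : ∃ T : Matrix I9 I9 F, Mem M T ∧ ∃ κ : F, ∀ i j,
        T i j = if i.1 = s * (j.1 - c) ∧ i.2 = j.2 then κ else 0 := by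
      rcases hs1 with rfl | rfl
      · refine ⟨w9 w 0 (-c, 0), htr _, 1, fun i j => ?_⟩
        rw [w9_apply, show dot 0 i = 0 by simp [dot], ch_zero, one_mul]
        refine if_congr ?_ rfl rfl
        simp [Prod.ext_iff, sub_eq_add_neg]
      · refine ⟨zed F * w9 w 0 (-c, 0), hz.mul (htr _), -1, fun i j => ?_⟩
        rw [zed, neg_mul, Matrix.neg_apply, pm_mul_apply, w9_apply, show dot 0 (negFst.symm i) = 0 by simp [dot],
          ch_zero, neg_one_mul, neg_ite, neg_zero]
        refine if_congr ?_ rfl rfl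
        have : ∀ a b a' b' c : Z, ((-a, b) = ((a', b') : I9) + (-c, 0)) ↔ a = -(a' - c) ∧ b = b' := by decide +kernel
        exact this i.1 i.2 j.1 j.2 c
    obtain ⟨t, htM, hte⟩ := hT
    have hprod : ∃ A, (t : Matrix I9 I9 F) * (glReindex e g : Matrix I9 I9 F) = bd A := by
      refine ⟨fun x y y' => ((t : Matrix I9 I9 F) * (glReindex e g : Matrix I9 I9 F)) (x, y) (x, y'), ?_⟩
      refine Matrix.ext fun i r => ?_
      show _ = if i.1 = r.1 then ((t : Matrix I9 I9 F) * (glReindex e g : Matrix I9 I9 F)) (i.1, i.2) (i.1, r.2) else 0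
      by_cases hir : i.1 = r.1
      · rw [if_pos hir]
        conv_lhs => rw [show i = (i.1, i.2) from rfl, show r = (r.1, r.2) from rfl, ← hir]
      rw [if_neg hir, Matrix.mul_apply]
      refine Finset.sum_eq_zero fun j _ => ?_
      rw [hte, hκ]
      by_cases hj : (glReindex e g : Matrix I9 I9 F) j r = 0
      · rw [hj, mul_zero]
      rw [if_neg, zero_mul]
      rintro ⟨h1, -⟩
      refine hir (h1.trans ?_)
      rw [hsupp j r hj]
      rw [show fz (π (fz.symm r.1)) = s * r.1 + c from hsc r.1]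
      rcases hs1 with rfl | rfl <;> ring
    obtain ⟨A, hA⟩ := hprod
    obtain ⟨u, hu, hue⟩ := hbd A ⟨t * glReindex e g, (G9 hF).mul_mem (hM htM) hX, by rw [Units.val_mul, hA]⟩
    show glReindex e g ∈ M
    rw [show glReindex e g = t⁻¹ * u by
      rw [eq_inv_mul_iff_mul_eq]; exact Units.ext (by rw [Units.val_mul, hA, hue])]
    exact M.mul_mem (M.inv_mem htM) hu
  rcases hmax.2 _ hstab (fun x hx => (glReindex_mem_G9 (hF := hF) e).1 (hM hx)) with heq | heq
  · exfalso
    obtain ⟨sw, hswM, hswe⟩ := hsw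
    obtain ⟨g, rfl⟩ := (glReindex e).surjective sw
    obtain ⟨⟨π, hπ⟩, -⟩ := heq.le (show g ∈ M.comap (glReindex e).toMonoidHom from hswM)
    have key : ∀ y : Z, y = fz (π 0) := by
      intro y
      by_contra hne
      have hr : (Pi.single (e.symm (0, y)) 1 : Fin 9 → F) ∈ blockSub e (fz 0) := fun j hj => by
        rw [Pi.single_apply, if_neg fun e' => hj (by rw [e', Equiv.apply_symm_apply, map_zero_fz])]
      have := (hπ 0).le (Submodule.mem_map_of_mem (f := Matrix.toLin' (g : Matrix (Fin 9) (Fin 9) F)) hr)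
        (e.symm (y, 0)) (by rw [Equiv.apply_symm_apply]; exact hne)
      rw [Matrix.toLin'_apply, Matrix.mulVec_single, MulOpposite.op_one, one_smul] at this
      have h2 : (glReindex e g : Matrix I9 I9 F) (y, 0) (0, y) = 0 := this
      rw [hswe, Matrix.neg_apply, pm_apply, if_pos (show ((y, 0) : I9) = swp (0, y) from rfl), neg_eq_zero] at h2
      exact one_ne_zero h2
    exact absurd ((key 0).trans (key 1).symm) (by decide)
  · intro g hg
    obtain ⟨g, rfl⟩ := (glReindex e).surjective g
    exact heq.ge ((glReindex_mem_G9 (hF := hF) e).1 hg)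

/-- the setting -/
theorem setup_su (hq : q.Prime) (h1 : q % 3 = 2) {M : Subgroup (GL I9 F)}
    (hN : ∀ g ∈ G9 hF, Nm w (g : Matrix I9 I9 F) → g ∈ M) (hM : M ≤ G9 hF) (hne : ¬ G9 hF ≤ M) :
    Setup w M (GUZ hF) (SUZ hF) := by
  classical
  have hmk : ∀ {X : Matrix I9 I9 F}, UMat (CfsgLib.Classical.qFrob hF) X → X.det = 1 → Nm w X → Mem M X := by
    intro X hu hd hX
    obtain ⟨g, hg, e⟩ := mem_uni_of_umat hu
    exact ⟨g, hN g (mem_G9_iff.2 ⟨hg, e ▸ hd⟩) (e ▸ hX), e⟩
  have hMu : ∀ {X : Matrix I9 I9 F}, Mem M X → UMat (CfsgLib.Classical.qFrob hF) X := by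
    rintro X ⟨g, hg, rfl⟩
    exact (mem_G9_iff.1 (hM hg)).1
  have hflip : Mem (SUZ hF) (diagonal fun y : Z => if y = 0 then (1 : F) else -1) := by
    obtain ⟨g, hg, e⟩ := mem_uni_of_umat (umat_diagonal (σ := CfsgLib.Classical.qFrob hF)
      (d := fun y : Z => if y = 0 then (1 : F) else -1) fun y => by split_ifs <;> simp)
    refine ⟨g, ⟨hg, mem_sl3.2 ?_⟩, e⟩
    rw [e, det_diagonal, show (Finset.univ : Finset Z) = {0, 1, 2} by decide, Finset.prod_insert (by decide),
      Finset.prod_pair (by decide), if_pos rfl, if_neg (by decide), if_neg (by decide)]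
    norm_num
  refine
    { root := h
      mem_w := fun a b => hmk (umat_w9 h hσ a b) (det_w9 h a b) (nm_w9 h a b)
      mem_quad := fun a b c => hmk (umat_qd h hσ a b c) (det_qd h a b c) (nm_qd h a b c)
      mem_shear := fun k => hmk (umat_pm _) (by rw [det_pm, sign_shear]; simp) (nm_shear h k)
      mem_swap := hmk (umat_pm _).neg (by rw [det_neg, det_pm, sign_swp]; simp [pow_succ]) (nm_neg_swp h)
      mem_zed := hmk (umat_pm _).neg (by rw [zed, det_neg, det_pm, sign_negFst]; simp [pow_succ]) (nm_zed h)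
      mem_hess := fun g hg hgn => hmk (umat_bd.2 fun _ => hg.1) (by rw [bd_det, mem_sl3.1 hg.2]; simp)
        (nm_bd_const h hgn)
      S_le := inf_le_left
      phi_mem := phi_mem_SUZ h hσ
      w3_mem := w3_mem_SUZ h hσ
      flip_mem := hflip
      conj_S := fun g hg s hs => conj_SUZ hF hg hs
      normal_top := fun hex L hLG hn hx => ?_
      dich := fun P hPG hP htw => ?_
      block := fun A hA x => mem_uni_of_umat (umat_bd.1 (hMu hA) x)
      ablock := fun X hX hXz => mem_uni_of_umat (umat_oddPart (hMu hX) hXz)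
      no_top := fun hS => hne (eq_top_of_single h hσ hq hN hM hS) }
  · by_cases h2 : q = 2
    · obtain ⟨g, hg, hgn⟩ := hex
      exact absurd (nm3_of_umat h hσ (cube_eq_one hF h2) (two_eq_zero hF h2) hg) hgn
    · exact normal_top h hσ (by have := hq.two_le; omega) L hLG hn hx
  · by_cases h2 : q = 2
    · exact Or.inl fun g hg => nm3_of_umat h hσ (cube_eq_one hF h2) (two_eq_zero hF h2) (hPG hg)
    · exact dich_odd h hσ hq rfl h2 h1 hPG hP htw

end CfsgLib.MaxSub.SuNine
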