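import Cfsg.Agent.Lib.MaxSub.SlNine.CentZ
import Cfsg.Agent.Lib.MaxSub.SlNine.Final

/-!
Characteristic two: the centraliser of the first sign change normalises, and the two sign changes are not
conjugate.
-/

set_option autoImplicit false
set_option linter.unusedSectionVars false

namespace CfsgLib.MaxSub.SuNine

open Matrix CfsgLib.MaxSub.SlNine
open scoped MatrixGroups

variable {F : Type*} [Field F] [Fintype F] {w : F}

/-- a permutation matrix permutes the coordinates -/
theorem pm_mulVec_eq {α : Type} [Fintype α] [DecidableEq α] (σ : Equiv.Perm α) (v : α → F) (i : α) :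
    ((pm σ : Matrix α α F) *ᵥ v) i = v (σ.symm i) := by
  rw [Matrix.mulVec, dotProduct, Finset.sum_eq_single (σ.symm i)]
  · simp [pm_apply]
  · intro b _ hb
    rw [pm_apply, if_neg (fun e => hb (by rw [e, Equiv.symm_apply_apply])), zero_mul]
  · simp

/-- the first and the total sign change are not conjugate -/
theorem not_conj_two (h20 : (2 : F) = 0) (g : GL I9 F) : (g : Matrix I9 I9 F) * tau F ≠ zed F * g := by
  classical
  intro e
  obtain ⟨rep, hrep⟩ : ∃ rep : Fin 5 → I9,
      rep = ![((0 : Z), (0 : Z)), ((1 : Z), (0 : Z)), ((0 : Z), (1 : Z)), ((1 : Z), (1 : Z)), ((1 : Z), (2 : Z))] :=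
    ⟨_, rfl⟩
  obtain ⟨u, hu⟩ : ∃ u : (Bool × Z → F) → I9 → F, u = fun f i => f (decide (i.1 = 0), i.2) := ⟨_, rfl⟩
  have hsign : (-1 : F) = 1 := by linear_combination -h20
  have hz : ∀ f, zed F *ᵥ u f = u f := fun f => funext fun i => by
    rw [zed, Matrix.neg_mulVec, Pi.neg_apply, pm_mulVec_eq, neg_eq_neg_one_mul, hsign, one_mul, hu]
    obtain ⟨a, b⟩ := i
    show f (decide (-a = 0), b) = f (decide (a = 0), b)
    rw [show decide (-a = 0) = decide (a = 0) from decide_eq_decide.2 neg_eq_zero]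
  have ht : ∀ f, tau F *ᵥ (((g⁻¹ : GL I9 F) : Matrix I9 I9 F) *ᵥ u f) =
      ((g⁻¹ : GL I9 F) : Matrix I9 I9 F) *ᵥ u f := fun f => by
    have e' : tau F * ((g⁻¹ : GL I9 F) : Matrix I9 I9 F) = ((g⁻¹ : GL I9 F) : Matrix I9 I9 F) * zed F := by
      have := congrArg (fun A => ((g⁻¹ : GL I9 F) : Matrix I9 I9 F) * A * ((g⁻¹ : GL I9 F) : Matrix I9 I9 F)) e
      simp only [← mul_assoc, Units.inv_mul, one_mul] at this
      rw [this, mul_assoc, Units.mul_inv, mul_one]
    rw [Matrix.mulVec_mulVec, e', ← Matrix.mulVec_mulVec, hz]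
  have hinj : Function.Injective fun (f : Bool × Z → F) (k : Fin 5) =>
      (((g⁻¹ : GL I9 F) : Matrix I9 I9 F) *ᵥ u f) (rep k) := by
    intro f f' he
    have hv : ((g⁻¹ : GL I9 F) : Matrix I9 I9 F) *ᵥ u f = ((g⁻¹ : GL I9 F) : Matrix I9 I9 F) *ᵥ u f' := by
      funext i
      have hcase : ∀ i : I9, (∃ k, rep k = i) ∨ ∃ k, rep k = -i := by rw [hrep]; decide
      rcases hcase i with ⟨k, rfl⟩ | ⟨k, hk⟩
      · exact congrFun he k
      · have h1 := congrFun (ht f) i
        have h2 := congrFun (ht f') i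
        rw [tau, pm_mulVec_eq, Equiv.neg_symm, Equiv.neg_apply] at h1 h2
        rw [← h1, ← h2, ← hk]
        exact congrFun he k
    have hv' := congrArg ((g : Matrix I9 I9 F) *ᵥ ·) hv
    simp only [Matrix.mulVec_mulVec, Units.mul_inv, Matrix.one_mulVec] at hv'
    funext p
    obtain ⟨b, y⟩ := p
    rw [hu] at hv'
    cases b
    · simpa using congrFun hv' (1, y)
    · simpa using congrFun hv' (0, y)
  have hc := Fintype.card_le_of_injective _ hinj
  rw [Fintype.card_fun, Fintype.card_fun, Fintype.card_prod, Fintype.card_bool, ZMod.card, Fintype.card_fin] at hc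
  exact absurd hc (not_le.2 (Nat.pow_lt_pow_right Fintype.one_lt_card (by norm_num)))

variable {M : Subgroup (GL I9 F)} {G S : Subgroup (GL Z F)}

/-- in characteristic two an overgroup in the setting consists of normalising elements -/
theorem all_nm_two (hS : Setup w M G S) (hp : NoPure w M) (h20 : (2 : F) = 0)
    (hG : ∀ g ∈ G, Nm3 w (g : Matrix Z Z F)) {g : GL I9 F} (hg : g ∈ M) : Nm w (g : Matrix I9 I9 F) :=
  hS.le_normalizer hp (fun _ hX e => hS.cent_zed_of hp (Or.inr hG) hX e) (fun _ => h20) (not_conj_two h20) hg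

end CfsgLib.MaxSub.SuNine
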