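import Cfsg.Agent.Lib.MaxSub.SuNine.Setup
import Cfsg.Agent.Lib.MaxSub.SlNine.Pure
import Cfsg.Agent.Lib.MaxSub.SlNine.CentR

/-!
Over the field with four elements an overgroup of the normaliser has no element of the group in a single block:
such an element gives the whole monomial group, which is maximal and does not contain a Fourier block.
-/

set_option autoImplicit false
set_option linter.unusedSectionVars false

namespace CfsgLib.MaxSub.SuNine

open Matrix CfsgLib.MaxSub CfsgLib.MaxSub.SlNine Cfsg.Geo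
open scoped MatrixGroups

variable {F : Type*} [Field F]

/-- generators of the symmetric group of the plane -/
inductive Gen | cyc | trX | trY | sw | ng | sh

/-- their permutations -/
def Gen.perm : Gen → Equiv.Perm I9
  | .cyc => Pure.colC 0
  | .trX => Equiv.addRight (1, 0)
  | .trY => Equiv.addRight (0, 1)
  | .sw => swp
  | .ng => negFst
  | .sh => shear 1

open Gen in
/-- words for the transpositions moving the origin -/
def word (p : I9) : List Gen :=
  [[], [cyc, sw, cyc, sh, sw, cyc, sw, cyc, sw, cyc, sw, cyc, sw, sh, sh, sw],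
    [sw, cyc, ng, sh, sw, cyc, sw, cyc, trX, sw, cyc, sw, cyc, sw, cyc, trX],
    [trX, trX, sh, sw, cyc, sw, cyc, trX, sw, cyc, sw, cyc, sh, sw, cyc],
    [cyc, trX, trX, sw, cyc, sw, cyc, sw, cyc, sw, cyc, trX, sw, sh, trX],
    [cyc, sh, sw, cyc, sw, cyc, trX, sh, sw, cyc, sw, cyc, sh, sh, sw],
    [trX, sh, sw, cyc, sw, cyc, trX, sw, cyc, sw, cyc, sh, sw, cyc, trX],
    [cyc, trX, sh, sh, sw, cyc, sw, cyc, sw, cyc, sw, sh, trX, cyc, sw],
    [sw, ng, sh, sw, cyc, sw, cyc, sw, cyc, trX, sh, sw, cyc, sw, cyc]].getD (p.1.val * 3 + p.2.val) []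

theorem word_prod : ∀ p : I9, p ≠ 0 → ((word p).map Gen.perm).prod = Equiv.swap 0 p := by decide +kernel

/-- a set of permutations containing a star of transpositions is everything -/
theorem star_top {Q : Subgroup (Equiv.Perm I9)} (hQ : ∀ p : I9, p ≠ 0 → Equiv.swap 0 p ∈ Q) : Q = ⊤ := by
  rw [eq_top_iff, ← Equiv.Perm.closure_isSwap, Subgroup.closure_le]
  rintro σ ⟨a, b, hab, rfl⟩
  by_cases ha : a = 0
  · subst ha; exact hQ b (Ne.symm hab)
  by_cases hb : b = 0
  · subst hb; rw [Equiv.swap_comm]; exact hQ a hab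
  have key : ∀ a b : I9, a ≠ 0 → b ≠ 0 → a ≠ b →
      Equiv.swap a b = Equiv.swap 0 a * Equiv.swap 0 b * Equiv.swap 0 a := by decide +kernel
  rw [key a b ha hb hab]
  exact Q.mul_mem (Q.mul_mem (hQ a ha) (hQ b hb)) (hQ a ha)

/-- the coordinate lines -/
def lineSub (F : Type*) [Field F] (i : Fin 9) : Submodule F (Fin 9 → F) where
  carrier := {v | ∀ j, j ≠ i → v j = 0}
  add_mem' {u v} hu hv j hj := by simp [hu j hj, hv j hj]
  zero_mem' j _ := rfl
  smul_mem' c v hv j hj := by simp [hv j hj]

variable [Fintype F] {q : ℕ}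

theorem lineSub_decomp (hq : 0 < q) : IsNondegenerateMDecomposition (Cfsg.hermForm 9 F q) 1 (lineSub F) := by
  classical
  refine ⟨⟨by norm_num, by norm_num, fun i => ?_, ?_, ?_⟩, fun i v hv hv0 => ?_, fun i j hij u hu v hv => ?_⟩
  · let L : lineSub F i ≃ₗ[F] F :=
      { toFun := fun v => (v : Fin 9 → F) i
        map_add' := fun u v => rfl
        map_smul' := fun c v => rfl
        invFun := fun c => ⟨Pi.single i c, fun j hj => Pi.single_eq_of_ne (M := fun _ => F) hj c⟩
        left_inv := fun v => Subtype.ext (funext fun j => by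
          by_cases hj : j = i
          · subst hj; simp
          · simp [hj, v.2 j hj])
        right_inv := fun c => by simp }
    rw [L.finrank_eq, Module.finrank_self]
  · rw [iSupIndep_def]
    intro i
    rw [Submodule.disjoint_def]
    intro v hv hv'
    refine funext fun j => ?_
    by_cases hj : j = i
    · have hle : (⨆ (k : Fin 9) (_ : k ≠ i), lineSub F k) ≤ LinearMap.ker (LinearMap.proj j) :=
        iSup₂_le fun k hk u hu => hu j fun e => hk (by rw [← e, hj])
      exact hle hv'
    · exact hv j hj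
  · rw [eq_top_iff]
    intro v _
    rw [show v = ∑ i, Pi.single i (v i) from (Finset.univ_sum_single v).symm]
    exact Submodule.sum_mem _ fun i _ => Submodule.mem_iSup_of_mem i fun j hj => Pi.single_eq_of_ne hj _
  · obtain ⟨j, hj⟩ := Function.ne_iff.1 hv0
    have hji : j = i := by by_contra hne; exact hj (hv j hne)
    have hs : (Pi.single j 1 : Fin 9 → F) ∈ lineSub F i := fun k hk => Pi.single_eq_of_ne (hji ▸ hk) _
    refine ⟨⟨_, hs, ?_⟩, ⟨_, hs, ?_⟩⟩
    · rw [Cfsg.hermForm, Finset.sum_eq_single j (fun k _ hk => by simp [hk]) (by simp)]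
      simpa using pow_ne_zero q hj
    · rw [Cfsg.hermForm, Finset.sum_eq_single j (fun k _ hk => by simp [hk, zero_pow hq.ne']) (by simp)]
      simpa using hj
  · refine Finset.sum_eq_zero fun k _ => ?_
    by_cases hk : k = i
    · rw [hv k (fun e => hij (hk.symm.trans e)), zero_pow hq.ne', mul_zero]
    · rw [hu k hk, zero_mul]

variable {hF : Fintype.card F = q ^ 2} {w : F}

/-- no element of the group in a single block -/
theorem no_pure_two (hq2 : q = 2) (h1 : q % 3 = 2) (h : Root w) {M : Subgroup (GL I9 F)}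
    (hS : Setup w M (GUZ hF) (SUZ hF)) (hMG : M ≤ G9 hF) : NoPure w M := by
  classical
  intro a b hne c hX
  have hσ := frob_root hF h1 h
  have h2 : (2 : F) = 0 := two_eq_zero hF hq2
  have hneg : ∀ X : Matrix I9 I9 F, -X = X := fun X => Matrix.ext fun i j => by
    rw [Matrix.neg_apply]; linear_combination -(X i j) * h2
  have hall := Pure.all_single hS hne hX
  have hwt : ∀ t : I9, Mem M (pm (Equiv.addRight t) : Matrix I9 I9 F) := fun t => by
    have := hS.mem_w 0 t
    rwa [w9, show (fun x : I9 => ch w (dot 0 x)) = fun _ => 1 from funext fun x => by simp [dot, ch_zero],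
      diagonal_one, one_mul] at this
  -- all permutations
  obtain ⟨Q, hQ⟩ : ∃ Q : Subgroup (Equiv.Perm I9), ∀ σ, σ ∈ Q ↔ Mem M (pm σ : Matrix I9 I9 F) :=
    ⟨{ carrier := {σ | Mem M (pm σ : Matrix I9 I9 F)}
       one_mem' := by show Mem M (pm 1 : Matrix I9 I9 F); rw [pm_one]; exact Mem.one
       mul_mem' := fun {σ τ} hσ hτ => by
         show Mem M (pm (σ * τ) : Matrix I9 I9 F); rw [← pm_mul_pm]; exact hσ.mul hτ
       inv_mem' := fun {σ} hσ => hσ.inv (pm_mul_inv σ) }, fun σ => Iff.rfl⟩
  have hgen : ∀ g : Gen, g.perm ∈ Q := fun g => by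
    rw [hQ]
    cases g
    · have := hall 0 0 1
      rw [ch_zero, one_smul] at this
      convert this using 1
      refine Matrix.ext fun i j => ?_
      obtain ⟨x, y⟩ := i
      obtain ⟨x', y'⟩ := j
      rcases Pure.casesZ x with rfl | rfl | rfl <;> rcases Pure.casesZ x' with rfl | rfl | rfl <;>
        simp +decide [Gen.perm, pm_apply, bd_apply, SlNine.single, Pure.colC, w3_apply, ch_zero, Matrix.one_apply]
    · exact hwt _
    · exact hwt _
    · have := hS.mem_swap
      rwa [hneg] at this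
    · have := hS.mem_zed
      rwa [zed, hneg] at this
    · exact hS.mem_shear 1
  have hword : ∀ l : List Gen, (l.map Gen.perm).prod ∈ Q := fun l =>
    Subgroup.list_prod_mem _ fun σ hσ => by
      obtain ⟨g, -, rfl⟩ := List.mem_map.1 hσ
      exact hgen g
  have hperm : ∀ σ : Equiv.Perm I9, Mem M (pm σ : Matrix I9 I9 F) := fun σ => by
    rw [← hQ, star_top (Q := Q) fun p hp => word_prod p hp ▸ hword _]
    exact Subgroup.mem_top _
  -- all phases with sum zero
  obtain ⟨D, hD⟩ : ∃ D : AddSubgroup (I9 → Z), ∀ f, f ∈ D ↔ Mem M (diagonal fun p => ch w (f p)) :=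
    ⟨{ carrier := {f | Mem M (diagonal fun p => ch w (f p))}
       zero_mem' := by
         show Mem M (diagonal fun p : I9 => ch w ((0 : I9 → Z) p))
         simp only [Pi.zero_apply, ch_zero, diagonal_one]; exact Mem.one
       add_mem' := fun {f g} hf hg => by
         show Mem M (diagonal fun p : I9 => ch w ((f + g) p))
         simp only [Pi.add_apply, h.ch_add]
         rw [← diagonal_mul_diagonal]; exact hf.mul hg
       neg_mem' := fun {f} hf => hf.inv (Y := diagonal fun p : I9 => ch w ((-f) p)) (by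
         rw [diagonal_mul_diagonal, ← diagonal_one]
         exact congrArg diagonal (funext fun p => by rw [← h.ch_add, Pi.neg_apply, add_neg_cancel, ch_zero])) },
      fun f => Iff.rfl⟩
  obtain ⟨e0, he0⟩ : ∃ e0 : I9 → Z, e0 = fun p => if p.1 = 0 then p.2 else 0 := ⟨_, rfl⟩
  have he0D : e0 ∈ D := by
    rw [hD]
    have := hall 0 1 0
    convert this using 1
    refine Matrix.ext fun i j => ?_
    obtain ⟨x, y⟩ := i
    obtain ⟨x', y'⟩ := j
    rcases Pure.casesZ x with rfl | rfl | rfl <;> rcases Pure.casesZ x' with rfl | rfl | rfl <;>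
      simp +decide [he0, bd_apply, SlNine.single, w3_apply, diagonal_apply, Prod.ext_iff, Matrix.one_apply, ch_zero]
  have hpair : ∀ p : I9, p ≠ 0 → Pi.single p 1 - Pi.single 0 1 ∈ D := by
    intro p hp
    obtain ⟨σ, h01, h02⟩ : ∃ σ : Equiv.Perm I9, σ (0, 1) = p ∧ σ (0, 2) = 0 := by
      obtain ⟨τ, hτ⟩ : ∃ τ : Equiv.Perm I9, τ = Equiv.swap (0, 1) p := ⟨_, rfl⟩
      refine ⟨Equiv.swap (τ (0, 2)) 0 * τ, ?_, ?_⟩
      · rw [Equiv.Perm.mul_apply, show τ (0, 1) = p by rw [hτ, Equiv.swap_apply_left]]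
        refine Equiv.swap_apply_of_ne_of_ne (fun e => ?_) hp
        have : τ (0, 1) = τ (0, 2) := by rw [← e, hτ, Equiv.swap_apply_left]
        exact absurd (τ.injective this) (by decide)
      · rw [Equiv.Perm.mul_apply, Equiv.swap_apply_left]
    rw [hD]
    have := (hperm σ).conj ((hD _).1 he0D) (pm_mul_inv σ)
    rw [pm_mul_diagonal, mul_assoc, pm_mul_inv, mul_one] at this
    convert this using 3 with r
    congr 1
    obtain ⟨r, rfl⟩ := σ.surjective r
    rw [Equiv.symm_apply_apply, ← h01, ← h02, Pi.sub_apply, Pi.single_apply, Pi.single_apply, he0]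
    simp only [σ.injective.eq_iff]
    exact (by decide +kernel : ∀ r : I9,
      ((if r = (0, 1) then (1 : Z) else 0) - if r = (0, 2) then (1 : Z) else 0) = if r.1 = 0 then r.2 else 0) r
  have hsum : ∀ f : I9 → Z, ∑ p, f p = 0 → f ∈ D := by
    intro f hf
    have e : f = ∑ p, (f p).val • (Pi.single p 1 - Pi.single 0 1) := by
      funext r
      rw [Finset.sum_apply]
      have ev : ∀ p : I9, ((f p).val • (Pi.single p 1 - Pi.single 0 1) : I9 → Z) r =
          f p * ((if r = p then 1 else 0) - if r = 0 then 1 else 0) := fun p => by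
        show (f p).val • ((Pi.single p (1 : Z) : I9 → Z) r - (Pi.single 0 (1 : Z) : I9 → Z) r) = _
        rw [Pi.single_apply, Pi.single_apply, nsmul_eq_mul, ZMod.natCast_zmod_val]
      simp only [ev, mul_sub, mul_ite, mul_one, mul_zero, Finset.sum_sub_distrib, Finset.sum_ite_eq, Finset.mem_univ,
        if_true]
      by_cases hr : r = 0
      · subst hr; simp [hf]
      · simp [hr]
    rw [e]
    refine D.sum_mem fun p _ => D.nsmul_mem ?_ _
    by_cases hp : p = 0
    · subst hp; rw [sub_self]; exact D.zero_mem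
    · exact hpair p hp
  -- the monomial group
  obtain ⟨e⟩ : Nonempty (Fin 9 ≃ I9) := ⟨(Fintype.equivFinOfCardEq (by simp [I9, Z])).symm⟩
  have hmax := CfsgLib.MaxSub.UFrame.isMaximalIn_decomposition_nine hF le_rfl (fun h => by omega)
    (lineSub_decomp (F := F) (q := q) (by omega))
  have hsupp : ∀ {g : GL (Fin 9) F} {π : Equiv.Perm (Fin 9)},
      (∀ i, (lineSub F i).map (Matrix.toLin' (g : Matrix (Fin 9) (Fin 9) F)) = lineSub F (π i)) →
      ∀ p r : I9, (glReindex e g : Matrix I9 I9 F) p r ≠ 0 → p = (e.symm.trans (π.trans e)) r := by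
    intro g π hπ p r hpr
    by_contra hne
    have hr : (Pi.single (e.symm r) 1 : Fin 9 → F) ∈ lineSub F (e.symm r) := fun j hj => Pi.single_eq_of_ne hj _
    have := (hπ (e.symm r)).le (Submodule.mem_map_of_mem (f := Matrix.toLin' (g : Matrix (Fin 9) (Fin 9) F)) hr)
      (e.symm p) (fun e' => hne (by simp [← e']))
    rw [Matrix.toLin'_apply, Matrix.mulVec_single, MulOpposite.op_one, one_smul] at this
    exact hpr this
  have hstab : decompositionStabilizer (lineSub F) ⊓ (Cfsg.GU 9 F q ⊓ specialLinear (Fin 9) F) ≤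
      M.comap (glReindex e).toMonoidHom := by
    rintro g ⟨⟨π, hπ⟩, hg⟩
    obtain ⟨hu, hdet⟩ := mem_G9_iff.1 ((glReindex_mem_G9 (hF := hF) e).2 hg)
    obtain ⟨X, hX⟩ : ∃ X, X = (glReindex e g : Matrix I9 I9 F) := ⟨_, rfl⟩
    rw [← hX] at hu hdet
    obtain ⟨σ, hσ'⟩ : ∃ σ : Equiv.Perm I9, σ = e.symm.trans (π.trans e) := ⟨_, rfl⟩
    have hs : ∀ p r, X p r ≠ 0 → p = σ r := fun p r hh => by
      rw [hX] at hh; rw [hσ']; exact hsupp hπ p r hh
    have eX : X = diagonal (fun p => X p (σ.symm p)) * pm σ := by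
      ext p r
      rw [diagonal_mul, pm_apply]
      split_ifs with hpr
      · subst hpr; simp
      · rw [mul_zero]; by_contra h0; exact hpr (hs p r h0)
    have hd0 : ∀ p, X p (σ.symm p) ≠ 0 := fun p h0 => by
      have := congrArg Matrix.det eX
      rw [hdet, det_mul, det_diagonal, Finset.prod_eq_zero (Finset.mem_univ p) h0, zero_mul] at this
      exact one_ne_zero this
    choose f hf using fun p => h.eq_ch (cube_eq_one hF hq2 _ (hd0 p))
    have hsign : ((Equiv.Perm.sign σ : ℤ) : F) = 1 := by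
      rcases Int.units_eq_one_or (Equiv.Perm.sign σ) with e' | e' <;> rw [e']
      · simp
      · simp only [Units.val_neg, Units.val_one, Int.cast_neg, Int.cast_one]; linear_combination -h2
    have hfs : ∑ p, f p = 0 := by
      rw [eX, det_mul, det_diagonal, det_pm, hsign, mul_one] at hdet
      simp only [hf] at hdet
      rw [prod_ch h] at hdet
      exact h.ch_eq_one hdet
    obtain ⟨u, hu', hue⟩ := ((hD f).1 (hsum f hfs)).mul (hperm σ)
    show glReindex e g ∈ M
    rw [show glReindex e g = u from Units.ext (by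
      rw [hue, ← hX]
      conv_lhs => rw [eX]
      rw [funext hf])]
    exact hu'
  rcases hmax.2 _ hstab (fun x hx => (glReindex_mem_G9 (hF := hF) e).1 (hMG hx)) with heq | heq
  · -- the Fourier blocks are not monomial
    obtain ⟨φ, hφS, hφ⟩ := hS.phi_mem
    obtain ⟨t, htM, hte⟩ := hS.mem_hess φ hφS (by
      rw [hφ]; exact nm3_phi h)
    obtain ⟨g, rfl⟩ := (glReindex e).surjective t
    obtain ⟨⟨π, hπ⟩, -⟩ := heq.le (show g ∈ M.comap (glReindex e).toMonoidHom from htM)
    have key : ∀ y : Z, ((0, y) : I9) = (e.symm.trans (π.trans e)) (0, 0) := fun y => by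
      refine hsupp hπ _ _ ?_
      rw [hte, bd_apply, if_pos rfl, hφ, phi, Matrix.smul_apply, Matrix.of_apply, smul_eq_mul]
      exact mul_ne_zero (inv_ne_zero fun e => h.ne_one (mul_left_cancel₀ h.ne_zero (by linear_combination -e)))
        (h.ch_ne_zero _)
    exact absurd ((key 0).trans (key 1).symm) (by decide)
  · refine hS.no_top fun g hg => ?_
    obtain ⟨u, hu, hue⟩ := mem_uni_of_umat ((umat_bd (σ := CfsgLib.Classical.qFrob hF)
      (A := SlNine.single (g : Matrix Z Z F))).2 fun x => by
        rw [SlNine.single]; split_ifs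
        exacts [hg.1, UMat.one])
    have hd : (u : Matrix I9 I9 F).det = 1 := by
      rw [hue, bd_det, Finset.prod_eq_single (0 : Z)]
      · rw [SlNine.single, if_pos rfl, mem_sl3.1 hg.2]
      · intro x _ hx; rw [SlNine.single, if_neg hx, det_one]
      · simp
    obtain ⟨u', rfl⟩ := (glReindex e).surjective u
    exact ⟨_, heq.ge ((glReindex_mem_G9 (hF := hF) e).1 (mem_G9_iff.2 ⟨hu, hd⟩)), hue⟩

end CfsgLib.MaxSub.SuNine
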